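import Cfsg.Agent.Lib.Spor.Leech.SevenFix.Inverter
import Cfsg.Agent.Lib.Invol.FourFreeNormal
import Cfsg.Agent.Lib.Grp.Components
import Cfsg.Agent.Lib.Grp.Cores

/-!
The automizer of a subgroup of order seven in a group of Monster type, and an involution inducing an outer
automorphism of the layer of its centraliser.
-/

set_option autoImplicit false
set_option maxRecDepth 100000
set_option linter.style.haveILetI false

noncomputable section

namespace Cfsg.Agent.Spor.Leech.SevenFix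

open Cfsg Cfsg.Agent.Spor.Leech.OddFix

theorem unit_sums : ∀ k : Fin 6, ∃ u ∈ insert 0 frameSet, ∃ v ∈ insert 0 frameSet,
    u + v = (fun i => if i = k then 1 else 0 : Fin 6 → ZMod 2) := by decide +kernel

variable {G : Type*} [Group G] [Finite G] {z : G} {Q : Subgroup (Subgroup.centralizer ({z} : Set G))} [Q.Normal]
  {e : (Subgroup.centralizer ({z} : Set G)) ⧸ Q ≃* Cfsg.Spor.Co1} {ψ : leechLattice → Q ⧸ Subgroup.center Q}
  {b s : G}

theorem NT_central (b : G) : NT b ≤ Subgroup.center (CB b) := fun x hx =>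
  Subgroup.mem_center_iff.2 fun g => Subtype.ext (Setup.comm_zpowers (mem_CB.1 g.2) hx)

theorem NT_normal (b : G) : (NT b).Normal :=
  ⟨fun x hx g => by rw [Subgroup.mem_center_iff.1 (NT_central b hx) g, mul_inv_cancel_right]; exact hx⟩

variable [hn : (NT b).Normal]

/-- The image of a member of the extraspecial group in the quotient. -/
abbrev img (S : Setup z Q e ψ 7 P0 Bs Gi b s none) (x : S.Q0) : CB b ⧸ NT b := ((S.eR x : S.Dz) : CB b ⧸ NT b)

theorem img_mul (S : Setup z Q e ψ 7 P0 Bs Gi b s none) (x y : S.Q0) : img S (x * y) = img S x * img S y := by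
  simp only [img, map_mul, Subgroup.coe_mul]

theorem img_inj (S : Setup z Q e ψ 7 P0 Bs Gi b s none) : Function.Injective (img S) :=
  Subtype.val_injective.comp (Subtype.val_injective.comp S.eR.injective)

theorem frame_conj (S : Setup z Q e ψ 7 P0 Bs Gi b s none)
    (hswap : ∃ h : G, h * z * h⁻¹ = s ∧ h * b * h⁻¹ ∈ Subgroup.zpowers b) (x : S.Q0)
    (hx : ∃ v, Rep ψ v (x : G) ∧ sqNorm (v : Vec) = 64) : IsConj S.zb (img S x) :=
  (S.isConj_iff_reached hswap exists_norm frames x).2 (Or.inr hx)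

theorem free_conj {H : Type*} [Group H] {K : Subgroup H} (hK : K.Normal) {a c : H} (h : IsConj a c)
    (ha : K ⊓ Subgroup.centralizer ({a} : Set H) = ⊥) : K ⊓ Subgroup.centralizer ({c} : Set H) = ⊥ := by
  obtain ⟨g, rfl⟩ := isConj_iff.1 h
  rw [Subgroup.eq_bot_iff_forall]
  rintro x ⟨hx, hxc⟩
  replace hxc : x * (g * a * g⁻¹) = g * a * g⁻¹ * x := Subgroup.mem_centralizer_singleton_iff.1 hxc
  have h1 : g⁻¹ * x * g ∈ K ⊓ Subgroup.centralizer ({a} : Set H) := by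
    refine ⟨by simpa using hK.conj_mem x hx g⁻¹, Subgroup.mem_centralizer_singleton_iff.2 ?_⟩
    calc g⁻¹ * x * g * a = g⁻¹ * (x * (g * a * g⁻¹)) * g := by group
      _ = g⁻¹ * ((g * a * g⁻¹) * x) * g := by rw [hxc]
      _ = a * (g⁻¹ * x * g) := by group
  rw [ha, Subgroup.mem_bot] at h1
  calc x = g * (g⁻¹ * x * g) * g⁻¹ := by group
    _ = 1 := by rw [h1]; group

/-- The centre lies in every nontrivial normal subgroup of the quotient. -/
theorem zb_mem (S : Setup z Q e ψ 7 P0 Bs Gi b s none)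
    (hswap : ∃ h : G, h * z * h⁻¹ = s ∧ h * b * h⁻¹ ∈ Subgroup.zpowers b) (K : Subgroup (CB b ⧸ NT b))
    [hK : K.Normal] (hne : K ≠ ⊥) : S.zb ∈ K := by
  haveI := S.R_normal
  -- the centraliser of the centre meets it
  have h1 : K ⊓ S.Dz ≠ ⊥ := by
    intro h0
    refine hne ?_
    let x0 : S.Q0 := ⟨s, S.s_mem⟩
    have hx0 : ∃ v, Rep ψ v (x0 : G) ∧ sqNorm (v : Vec) = 64 := ⟨_, S.rep, axis_norm none⟩
    have hx1 : ∃ v, Rep ψ v ((⟨z, S.z_mem0⟩ * x0 : S.Q0) : G) ∧ sqNorm (v : Vec) = 64 :=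
      ⟨_, by rw [Subgroup.coe_mul, ← S.mt.ext.central s S.sQ]; exact S.mt.rep_mul_z S.rep, axis_norm none⟩
    refine Invol.four_free_bot K (a := S.zb) (b := img S x0) ?_ ?_ ?_ fun e' he => ?_
    · rw [← pow_two, ← S.zb_order, pow_orderOf_eq_one]
    · rw [← img_mul, show x0 * x0 = 1 from Subtype.ext S.s_facts.1]
      simp [img]
    · exact ((Subgroup.mem_centralizer_singleton_iff.1 (S.eR x0 : S.Dz).2).symm : _)
    · refine free_conj hK ?_ h0
      rcases he with rfl | rfl | rfl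
      · exact IsConj.refl _
      · exact frame_conj S hswap x0 hx0
      · rw [← S.eR_z]
        exact (img_mul S _ _) ▸ frame_conj S hswap _ hx1
  set K' := K.subgroupOf S.Dz with hK'
  have hK'ne : K' ≠ ⊥ := fun h0 => h1 (by
    rw [← Subgroup.subgroupOf_map_subtype K S.Dz, ← hK', h0, Subgroup.map_bot])
  -- it meets the extraspecial group
  have h2 : K' ⊓ S.R ≠ ⊥ := fun h0 => hK'ne (by
    rw [Subgroup.eq_bot_iff_forall]
    intro d hd
    have hdR : d ∈ S.R := by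
      refine S.centralizer_R_le quot (Subgroup.mem_centralizer_iff.2 fun r hr => ?_)
      have hc : r * d * r⁻¹ * d⁻¹ ∈ K' ⊓ S.R := by
        refine ⟨mul_mem ((inferInstance : K'.Normal).conj_mem d hd r) (K'.inv_mem hd), ?_⟩
        rw [mul_assoc, mul_assoc]
        refine mul_mem hr ?_
        rw [← mul_assoc]
        exact (inferInstance : S.R.Normal).conj_mem _ (S.R.inv_mem hr) d
      rw [h0, Subgroup.mem_bot, mul_inv_eq_one, mul_inv_eq_iff_eq_mul] at hc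
      exact hc
    have h3 : d ∈ K' ⊓ S.R := ⟨hd, hdR⟩
    rwa [h0, Subgroup.mem_bot] at h3)
  obtain ⟨⟨d, hdK, hdR⟩, hd1'⟩ := Subgroup.ne_bot_iff_exists_ne_one.1 h2
  have hd1 : d ≠ 1 := fun h0 => hd1' (Subtype.ext h0)
  obtain ⟨x, hx⟩ := S.eR.surjective ⟨d, hdR⟩
  have hxd : img S x ∈ K := by rw [img, show (S.eR x : S.Dz) = d from congrArg Subtype.val hx]; exact hdK
  by_cases hxz : (x : G) = z
  · rwa [show x = ⟨z, S.z_mem0⟩ from Subtype.ext hxz, img, S.eR_z] at hxd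
  have hx1 : (x : G) ≠ 1 := fun h0 => hd1 (by
    rw [show x = 1 from Subtype.ext h0, map_one] at hx
    exact (congrArg Subtype.val hx).symm)
  obtain ⟨q, hq, hqx⟩ := S.noncomm x.2 hx1 hxz
  have e2 := ((S.mt.ext.conj_cases x.2.1 hq.1).resolve_left hqx).2
  have hm : img S (⟨q, hq⟩ * x * ⟨q, hq⟩⁻¹ * x⁻¹) ∈ K := by
    simp only [img, map_mul, map_inv, Subgroup.coe_mul, Subgroup.coe_inv]
    exact mul_mem (hK.conj_mem _ hxd _) (inv_mem hxd)
  rwa [show ⟨q, hq⟩ * x * ⟨q, hq⟩⁻¹ * x⁻¹ = (⟨z, S.z_mem0⟩ : S.Q0) from Subtype.ext (by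
    simp only [Subgroup.coe_mul, Subgroup.coe_inv]
    rw [e2, S.mt.ext.central _ x.2.1, mul_inv_cancel_right]), img, S.eR_z] at hm

/-- Every nontrivial normal subgroup of the quotient holds the extraspecial group. -/
theorem img_mem (S : Setup z Q e ψ 7 P0 Bs Gi b s none)
    (hswap : ∃ h : G, h * z * h⁻¹ = s ∧ h * b * h⁻¹ ∈ Subgroup.zpowers b) (K : Subgroup (CB b ⧸ NT b))
    [hK : K.Normal] (hne : K ≠ ⊥) (x : S.Q0) : img S x ∈ K := by
  have hz := zb_mem S hswap K hne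
  let T : Subgroup S.Q0 := (K.comap S.Dz.subtype).comap (S.R.subtype.comp S.eR.toMonoidHom)
  have hT : ∀ {y : S.Q0}, y ∈ T ↔ img S y ∈ K := Iff.rfl
  have hfr : ∀ y : S.Q0, (∃ v, Rep ψ v (y : G) ∧ sqNorm (v : Vec) = 64) → y ∈ T := fun y hy => by
    obtain ⟨g, hg⟩ := isConj_iff.1 (frame_conj S hswap y hy)
    rw [hT, ← hg]
    exact hK.conj_mem _ hz g
  have hker : S.coord.ker ≤ T := fun y hy => by
    rcases (S.coord_one y).1 hy with h | h
    · rw [show y = 1 from Subtype.ext h]; exact one_mem _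
    · rw [hT, show y = ⟨z, S.z_mem0⟩ from Subtype.ext h, img, S.eR_z]; exact hz
  let A : AddSubgroup (Fin 6 → ZMod 2) :=
    { carrier := {a | Multiplicative.ofAdd a ∈ T.map S.coord}
      zero_mem' := (T.map S.coord).one_mem
      add_mem' := fun {a c} ha hc => (T.map S.coord).mul_mem ha hc
      neg_mem' := fun {a} ha => (T.map S.coord).inv_mem ha }
  have hA0 : ∀ u ∈ insert 0 frameSet, u ∈ A := by
    intro u hu
    rcases Finset.mem_insert.1 hu with rfl | hu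
    · exact zero_mem A
    · obtain ⟨y, hy⟩ := S.coord_surjective (Multiplicative.ofAdd u)
      exact ⟨y, hfr y ((coord_mem S y).2 (by rw [hy, toAdd_ofAdd]; exact hu)), hy⟩
  have hAk : ∀ k : Fin 6, (fun i => if i = k then 1 else 0 : Fin 6 → ZMod 2) ∈ A := fun k => by
    obtain ⟨u, hu, v, hv, huv⟩ := unit_sums k
    rw [← huv]
    exact add_mem (hA0 u hu) (hA0 v hv)
  have hAtop : ∀ a, a ∈ A := fun a => by
    have h2 : ∀ c : ZMod 2, c = 0 ∨ c = 1 := by decide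
    have e' : a = ∑ k, if a k = 1 then (fun i => if i = k then 1 else 0 : Fin 6 → ZMod 2) else 0 := by
      funext i
      rw [Finset.sum_apply, Finset.sum_eq_single i (fun k _ hk => by split_ifs <;> simp [Ne.symm hk]) (by simp)]
      rcases h2 (a i) with h | h <;> rw [h] <;> simp
    rw [e']
    refine sum_mem fun k _ => ?_
    split_ifs
    exacts [hAk k, zero_mem A]
  obtain ⟨y, hy, hyx⟩ := hAtop (S.coord x).toAdd
  rw [ofAdd_toAdd] at hyx
  have h3 : y⁻¹ * x ∈ S.coord.ker := by rw [MonoidHom.mem_ker, map_mul, map_inv, hyx, inv_mul_cancel]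
  exact hT.1 (by simpa using mul_mem hy (hker h3))

/-- The image of a normal subgroup outside the divided part. -/
theorem map_ne {K : Subgroup (CB b)} (h : ¬ K ≤ NT b) : K.map (QuotientGroup.mk' (NT b)) ≠ ⊥ := fun h0 => h (by
  rwa [Subgroup.map_eq_bot_iff, QuotientGroup.ker_mk'] at h0)

theorem fitting_le (S : Setup z Q e ψ 7 P0 Bs Gi b s none)
    (hswap : ∃ h : G, h * z * h⁻¹ = s ∧ h * b * h⁻¹ ∈ Subgroup.zpowers b) :
    Cfsg.fittingSubgroup (CB b) ≤ NT b := by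
  rw [Grp.fittingSubgroup_eq_iSup_pCore]
  refine iSup_le fun r => ?_
  haveI : Fact (r : ℕ).Prime := ⟨r.2⟩
  by_contra hnot
  have hne := map_ne hnot
  set K := (Cfsg.pCore (r : ℕ) (CB b)).map (QuotientGroup.mk' (NT b)) with hK
  haveI hKn : K.Normal := (Grp.pCore_isNormal : (Cfsg.pCore (r : ℕ) (CB b)).Normal).map _
    (QuotientGroup.mk'_surjective _)
  have hp : IsPGroup (r : ℕ) K := (Grp.pCore_isPGroup (p := (r : ℕ))).map _
  haveI : Nontrivial K := K.nontrivial_iff_ne_bot.2 hne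
  haveI := hp.center_nontrivial
  let Z : Subgroup (CB b ⧸ NT b) := (Subgroup.center K).map K.subtype
  have hZ : Z ≠ ⊥ := fun h0 => by
    have h1 := (Subgroup.map_eq_bot_iff_of_injective _ (Subgroup.subtype_injective K)).1 h0
    exact (Subgroup.center K).nontrivial_iff_ne_bot.1 inferInstance h1
  haveI : Z.Normal := inferInstance
  obtain ⟨q, hq, hqs⟩ := S.noncomm S.s_mem S.s_facts.2.1 S.s_facts.2.2
  obtain ⟨a, ha, ea⟩ := img_mem S hswap Z hZ ⟨q, hq⟩
  obtain ⟨c, -, ec⟩ := img_mem S hswap Z hZ ⟨s, S.s_mem⟩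
  have h2 := congrArg Subtype.val (Subgroup.mem_center_iff.1 ha c)
  simp only [Subgroup.coe_mul] at h2
  have ea' : (a : CB b ⧸ NT b) = img S ⟨q, hq⟩ := ea
  have ec' : (c : CB b ⧸ NT b) = img S ⟨s, S.s_mem⟩ := ec
  rw [ea', ec', ← img_mul, ← img_mul] at h2
  exact hqs (congrArg Subtype.val (img_inj S h2)).symm

theorem layer_cent_le (S : Setup z Q e ψ 7 P0 Bs Gi b s none)
    (hswap : ∃ h : G, h * z * h⁻¹ = s ∧ h * b * h⁻¹ ∈ Subgroup.zpowers b) :
    Subgroup.centralizer (Cfsg.layer (CB b) : Set (CB b)) ≤ NT b := by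
  intro x hx
  refine fitting_le S hswap (Grp.centralizer_gfitting_le_fitting ?_)
  rw [Cfsg.generalizedFittingSubgroup]
  have h1 : Cfsg.layer (CB b) ⊔ Cfsg.fittingSubgroup (CB b) ≤ Subgroup.centralizer {x} := by
    refine sup_le (fun w hw => ?_) fun w hw => ?_
    · exact Subgroup.mem_centralizer_singleton_iff.2 (Subgroup.mem_centralizer_iff.1 hx w hw)
    · exact Subgroup.mem_centralizer_singleton_iff.2
        (Subgroup.mem_center_iff.1 (NT_central b (fitting_le S hswap hw)) x).symm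
  exact Subgroup.mem_centralizer_iff.2 fun w hw => Subgroup.mem_centralizer_singleton_iff.1 (h1 hw)

theorem exists_layer_lift (S : Setup z Q e ψ 7 P0 Bs Gi b s none)
    (hswap : ∃ h : G, h * z * h⁻¹ = s ∧ h * b * h⁻¹ ∈ Subgroup.zpowers b) (x : S.Q0) :
    ∃ w ∈ Cfsg.layer (CB b), ∃ i : ℕ, (w : G) = (x : G) * b ^ i := by
  haveI := (inferInstance : (Cfsg.layer (CB b)).Normal).map (QuotientGroup.mk' (NT b)) (QuotientGroup.mk'_surjective _)
  have hne : (Cfsg.layer (CB b)).map (QuotientGroup.mk' (NT b)) ≠ ⊥ := by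
    refine map_ne fun hle => ?_
    have h1 : S.zc ∈ Subgroup.centralizer (Cfsg.layer (CB b) : Set (CB b)) :=
      Subgroup.mem_centralizer_iff.2 fun w hw => (Subgroup.mem_center_iff.1 (NT_central b (hle hw)) S.zc).symm
    exact S.mt.z_ne (S.odd_one (layer_cent_le S hswap h1) S.mt.z_sq)
  obtain ⟨w, hw, hwx⟩ := img_mem S hswap _ hne x
  have hwx' : QuotientGroup.mk' (NT b) w = QuotientGroup.mk' (NT b) (S.incl x : CB b) := hwx
  rw [QuotientGroup.mk'_apply, QuotientGroup.mk'_apply, eq_comm, QuotientGroup.eq, Subgroup.mem_subgroupOf] at hwx'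
  obtain ⟨i, hi⟩ := (isOfFinOrder_of_finite b).mem_powers_iff_mem_zpowers.2 hwx'
  refine ⟨w, hw, i, ?_⟩
  replace hi : b ^ i = (x : G)⁻¹ * (w : G) := hi
  rw [hi, mul_inv_cancel_left]

/-- No element inverting the subgroup centralises the layer of its centraliser. -/
theorem no_inverter (S : Setup z Q e ψ 7 P0 Bs Gi b s none)
    (hswap : ∃ h : G, h * z * h⁻¹ = s ∧ h * b * h⁻¹ ∈ Subgroup.zpowers b) {y : G} (hyb : y * b * y⁻¹ = b⁻¹)
    (hy : ∀ w ∈ Cfsg.layer (CB b), y * (w : G) * y⁻¹ = w) : False := by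
  have hkey : ∀ x : S.Q0, ∃ i : ℕ, y * (x : G) * y⁻¹ = (x : G) * b ^ (2 * i) := by
    intro x
    obtain ⟨w, hw, i, hwi⟩ := exists_layer_lift S hswap x
    refine ⟨i, ?_⟩
    have h1 := hy w hw
    rw [hwi] at h1
    calc y * (x : G) * y⁻¹ = y * ((x : G) * b ^ i) * y⁻¹ * ((y * b * y⁻¹) ^ i)⁻¹ := by rw [conj_pow]; group
      _ = (x : G) * b ^ (2 * i) := by rw [h1, hyb, inv_pow, inv_inv, two_mul, pow_add, mul_assoc]
  have hyz : y * z = z * y := by
    obtain ⟨i, hi⟩ := hkey ⟨z, S.z_mem0⟩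
    have hzb : Commute z (b ^ (2 * i)) := (show Commute b z from S.bz).symm.pow_right _
    have h2 : b ^ (2 * i) * b ^ (2 * i) = 1 := by
      have h3 : y * z * y⁻¹ * (y * z * y⁻¹) = 1 := by
        calc y * z * y⁻¹ * (y * z * y⁻¹) = y * (z * z) * y⁻¹ := by group
          _ = 1 := by rw [S.mt.z_sq]; group
      rw [hi] at h3
      calc b ^ (2 * i) * b ^ (2 * i) = (z * z) * (b ^ (2 * i) * b ^ (2 * i)) := by rw [S.mt.z_sq, one_mul]
        _ = z * b ^ (2 * i) * (z * b ^ (2 * i)) := by rw [hzb.mul_mul_mul_comm]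
        _ = 1 := h3
    rw [S.odd_one (pow_mem (Subgroup.mem_zpowers b) _) h2, mul_one] at hi
    exact mul_inv_eq_iff_eq_mul.1 hi
  have hfix : ∀ x : S.Q0, y * (x : G) * y⁻¹ = x := by
    intro x
    obtain ⟨i, hi⟩ := hkey x
    have hq : b ^ (2 * i) ∈ QG Q := by
      have h4 := mul_mem ((QG Q).inv_mem x.2.1) (S.mt.ext.norm y hyz _ x.2.1)
      rwa [hi, inv_mul_cancel_left] at h4
    rw [hi, S.inter_one (pow_mem (Subgroup.mem_zpowers b) _) hq, mul_one]
  obtain ⟨g, hg⟩ := S.mt.exists_auto ⟨y, Subgroup.mem_centralizer_singleton_iff.2 hyz⟩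
  have h1 : (QuotientGroup.mk (g * P0 * g⁻¹) : Cfsg.Spor.Co1) = QuotientGroup.mk (P0 ^ 6) := by
    rw [QuotientGroup.mk_mul, QuotientGroup.mk_mul, QuotientGroup.mk_inv, hg, S.img, ← map_inv, ← map_mul, ← map_mul,
      S.img_pow, ← QuotientGroup.mk_inv, ← QuotientGroup.mk_mul, ← QuotientGroup.mk_mul]
    congr 2
    refine Subtype.ext ?_
    simp only [Subgroup.coe_mul, Subgroup.coe_inv, SubgroupClass.coe_pow]
    rw [hyb, inv_eq_of_mul_eq_one_right]
    rw [← pow_succ', S.b_pow]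
  have h6 : g * P0 = P0 ^ 6 * g := by
    rw [QuotientGroup.eq, mem_center_iff] at h1
    rcases h1 with h1 | h1
    · exact mul_inv_eq_iff_eq_mul.1 (inv_mul_eq_one.1 h1)
    · exfalso
      rw [inv_mul_eq_iff_eq_mul] at h1
      have h2 : (P0 ^ 6) ^ 7 = (g * P0 * g⁻¹) ^ 7 * negCo ^ 7 :=
        (congrArg (· ^ 7) h1).trans ((show Commute (g * P0 * g⁻¹) negCo from negCo_comm _).mul_pow 7)
      rw [← pow_mul, mul_comm, pow_mul, P0_pow, one_pow, conj_pow, P0_pow, mul_one, mul_inv_cancel, one_mul,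
        show (7 : ℕ) = 2 * 3 + 1 from rfl, pow_succ, pow_mul, pow_two, negCo_sq, one_pow, one_mul] at h2
      have h3 := negCo_apply (axis none)
      rw [← h2, one_smul] at h3
      exact axis_ne_neg none none h3
  have hgs : g ∈ crossStab := by
    have h2 := S.mt.rep_conj hg S.rep
    rw [show ((⟨y, Subgroup.mem_centralizer_singleton_iff.2 hyz⟩ : Subgroup.centralizer ({z} : Set G)) : G) = y from rfl,
      hfix ⟨s, S.s_mem⟩] at h2
    rw [← stabC_eq_crossStab none, mem_stabC]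
    exact S.mt.rep_cls h2 S.rep
  obtain ⟨π, hπ, c, hc, rfl⟩ := exists_mono hgs
  obtain ⟨e1, -⟩ := mono_mul_mono hπ M24Seven.gen_mem hc
  obtain ⟨-, e2⟩ := mono_mul_mono hπ (pow_mem M24Seven.gen_mem 6) hc
  rw [P0, mono_pow, e1, e2] at h6
  obtain ⟨he, -⟩ := mono_inj _ _ _ _ h6
  obtain ⟨R, hR, -⟩ := M24Seven.mem_conjList hπ he
  rw [maps_shape.2.2] at hR
  simp at hR

/-- The automorphisms induced on the subgroup. -/
theorem relIndex_eq (S : Setup z Q e ψ 7 P0 Bs Gi b s none) :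
    (Subgroup.centralizer ((Subgroup.zpowers b : Subgroup G) : Set G)).relIndex
      (Subgroup.normalizer ((Subgroup.zpowers b : Subgroup G) : Set G)) = 6 := by
  haveI : Fact (Nat.Prime 7) := ⟨by norm_num⟩
  rw [Subgroup.relIndex, ← Subgroup.normalizerMonoidHom_ker, Subgroup.index_ker,
    MonoidHom.range_eq_top.2 ?_, Subgroup.card_top, IsCyclic.card_mulAut, Nat.card_zpowers, S.ord,
    Nat.totient_prime (by norm_num)]
  intro φ
  obtain ⟨i, hi⟩ := (isOfFinOrder_of_finite b).mem_powers_iff_mem_zpowers.2 (φ ⟨b, Subgroup.mem_zpowers b⟩).2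
  replace hi : b ^ i = (φ ⟨b, Subgroup.mem_zpowers b⟩ : G) := hi
  have h7 : ¬ 7 ∣ i := fun hd => by
    rw [← S.ord, orderOf_dvd_iff_pow_eq_one] at hd
    rw [hd] at hi
    have h2 : φ ⟨b, Subgroup.mem_zpowers b⟩ = 1 := Subtype.ext hi.symm
    rw [MulEquiv.map_eq_one_iff] at h2
    have h3 : b = 1 := congrArg Subtype.val h2
    have h4 := S.ord
    rw [h3, orderOf_one] at h4
    norm_num at h4
  obtain ⟨g, hg⟩ := exists_norm i h7
  obtain ⟨c, -, hcb⟩ := S.exists_lift h7 hg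
  refine ⟨⟨c, S.norm_of h7 hcb⟩, MulEquiv.ext fun w => ?_⟩
  obtain ⟨w, hw⟩ := w
  obtain ⟨k, rfl⟩ := Subgroup.mem_zpowers_iff.1 hw
  have hw' : (⟨b ^ k, hw⟩ : Subgroup.zpowers b) = ⟨b, Subgroup.mem_zpowers b⟩ ^ k := Subtype.ext (by simp)
  rw [hw', map_zpow, map_zpow]
  congr 1
  exact Subtype.ext (hcb.trans hi)

theorem layer_conj {τ : G} (hτ : ∀ x ∈ CB b, τ * x * τ⁻¹ ∈ CB b) (hτ' : ∀ x ∈ CB b, τ⁻¹ * x * τ ∈ CB b) {w : G}
    (hw : w ∈ (Cfsg.layer (CB b)).map (CB b).subtype) : τ * w * τ⁻¹ ∈ (Cfsg.layer (CB b)).map (CB b).subtype := by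
  obtain ⟨w, hw, rfl⟩ := hw
  let φ : CB b ≃* CB b :=
    { toFun := fun x => ⟨τ * x * τ⁻¹, hτ x x.2⟩
      invFun := fun x => ⟨τ⁻¹ * x * τ, hτ' x x.2⟩
      left_inv := fun x => Subtype.ext (by show τ⁻¹ * (τ * (x : G) * τ⁻¹) * τ = x; group)
      right_inv := fun x => Subtype.ext (by show τ * (τ⁻¹ * (x : G) * τ) * τ⁻¹ = x; group)
      map_mul' := fun x y => Subtype.ext (by
        show τ * ((x : G) * y) * τ⁻¹ = τ * (x : G) * τ⁻¹ * (τ * (y : G) * τ⁻¹); group) }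
  exact ⟨φ w, Grp.layer_map_le φ ⟨w, hw, rfl⟩, rfl⟩

/-- The automizer and the outer involution. -/
theorem automizer (S : Setup z Q e ψ 7 P0 Bs Gi b s none)
    (hswap : ∃ h : G, h * z * h⁻¹ = s ∧ h * b * h⁻¹ ∈ Subgroup.zpowers b) :
    (CB b).relIndex (Subgroup.normalizer ((Subgroup.zpowers b : Subgroup G) : Set G)) = 6 ∧
      ∃ t : G, orderOf t = 2 ∧ (∀ x ∈ Subgroup.zpowers b, t * x * t⁻¹ = x⁻¹) ∧
        (∀ x ∈ (Cfsg.layer (CB b)).map (CB b).subtype, t * x * t⁻¹ ∈ (Cfsg.layer (CB b)).map (CB b).subtype) ∧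
        ¬ ∃ l ∈ (Cfsg.layer (CB b)).map (CB b).subtype, ∀ x ∈ (Cfsg.layer (CB b)).map (CB b).subtype,
          t * x * t⁻¹ = l * x * l⁻¹ := by
  refine ⟨relIndex_eq S, ?_⟩
  obtain ⟨τ, hτ2, -, hτb⟩ := exists_inverter S
  have hτi : τ⁻¹ = τ := inv_eq_of_mul_eq_one_right (by rw [← pow_two, ← hτ2, pow_orderOf_eq_one])
  have hin : ∀ x ∈ Subgroup.zpowers b, τ * x * τ⁻¹ = x⁻¹ := by
    intro x hx
    obtain ⟨k, rfl⟩ := Subgroup.mem_zpowers_iff.1 hx
    rw [← conj_zpow, hτb, inv_zpow]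
  have hCB : ∀ x ∈ CB b, τ * x * τ⁻¹ ∈ CB b := fun x hx => by
    rw [mem_CB] at hx ⊢
    have hxb : Commute x b⁻¹ := (show Commute x b from hx).inv_right
    calc τ * x * τ⁻¹ * b = τ * (x * (τ⁻¹ * b * τ)) * τ⁻¹ := by group
      _ = τ * ((τ⁻¹ * b * τ) * x) * τ⁻¹ := by
          rw [show τ⁻¹ * b * τ = b⁻¹ by rw [← hτb, hτi], hxb.eq]
      _ = b * (τ * x * τ⁻¹) := by group
  refine ⟨τ, hτ2, hin, fun x hx => layer_conj hCB (fun x hx => ?_) hx, ?_⟩
  · have h := hCB x hx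
    rw [hτi] at h ⊢
    exact h
  · rintro ⟨l, ⟨l, hl, rfl⟩, hall⟩
    refine no_inverter S hswap (y := ((l : CB b) : G)⁻¹ * τ) ?_ fun w hw => ?_
    · have hlb : Commute ((l : CB b) : G) b⁻¹ := (show Commute _ b from mem_CB.1 l.2).inv_right
      calc ((l : CB b) : G)⁻¹ * τ * b * (((l : CB b) : G)⁻¹ * τ)⁻¹ = ((l : CB b) : G)⁻¹ * (τ * b * τ⁻¹) * (l : G) := by
            group
        _ = b⁻¹ := by rw [hτb, mul_assoc, ← hlb.eq, inv_mul_cancel_left]
    · have h := hall _ ⟨w, hw, rfl⟩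
      simp only [Subgroup.coe_subtype] at h
      calc ((l : CB b) : G)⁻¹ * τ * (w : G) * (((l : CB b) : G)⁻¹ * τ)⁻¹ =
            ((l : CB b) : G)⁻¹ * (τ * (w : G) * τ⁻¹) * (l : G) := by group
        _ = w := by rw [h]; group

end Cfsg.Agent.Spor.Leech.SevenFix

end
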