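import Mathlib.Data.Nat.Notation

/-!
The permutations commuting with a given one of order seven.
-/

set_option autoImplicit false
set_option maxRecDepth 100000

namespace Cfsg.Agent.Spor.Leech.SevenFix

/-- The centraliser of the permutation in the Mathieu group. -/
def centL : List ℕ := [984818244535754528103549039458486304, 646012715481899000335856336619310145, 487652753883493592089921713896493154, 684961422077684304637720334447290499, 555136693175646947883283764961358148, 935473481520862404920115310245216650, 723891338859628440529556390609486860, 380679813245078647833929983948064800, 838895293338331973139256918516304961, 593565418505381115796898182460674146, 773994162651596721606579693212280963, 807755191760300215295244374727733572, 231403733902116317196172295881654666, 274247981458527867873610614095021068, 487629813616604364831656481269621957, 684938402582650254695042758828577062, 555132487893329957133135590719044233, 935469586961492915923545475102919124, 723884285077272798051280764799209038, 984804832693366551427334365477279346, 646010039055512835449015059714709683, 503957732485284884798711300948108485, 13282107975358938901804321232867622, 57427730180310716059225721335790217, 83382707906122491153308665318590932, 126226956052413699229865085512109646, 169053151302381124038024861561591410, 419576756977172894465297666516752563, 274223263509757559513050222291531275, 380672979816062971978457822241806768, 838895753852007716280215021360498381, 593544556739824925322149693513784886, 773978180845665958586179427154378481, 807729617157012106504437110870126071,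 231386020218071773369577706755637615, 126209291885999033347580319518897675, 169059729715753424858767373836540336, 419579893917234802493097046265546445, 503959810986617921582228044628090422, 13289145664462225824081630793678577, 57406360859339598018566631720496631, 83368888781447436323283911334871407]

end Cfsg.Agent.Spor.Leech.SevenFix
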