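import Cfsg.Agent.Lib.Spor.Leech.SevenFix.Fix
import Cfsg.Agent.Lib.Spor.Leech.SevenFix.CentData
import Cfsg.Agent.Lib.Grp.TwoSymFour.Known
import Cfsg.Agent.Lib.Classical.SLNormal
import Cfsg.Agent.Lib.Spor.Golay.AutSearch

/-!
The centraliser in the rank 24 lattice automorphisms of a coordinate permutation of order seven, modulo that
permutation and negation, is the special linear group of degree three over two elements.
-/

set_option autoImplicit false
set_option maxRecDepth 100000
set_option linter.style.haveILetI false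

noncomputable section

namespace Cfsg.Agent.Spor.Leech.SevenFix

open Cfsg Cfsg.Agent.Spor.Leech.OddFix
open Cfsg.Agent.Spor.CoSuz (decV HasT)
open scoped Pointwise

/-- A product after a signed permutation. -/
def dotI (R m X Y : ℕ) : ℤ :=
  ((List.range 24).map fun i =>
    if m.testBit (Golay.get R i) then -(((Golay.get X i : ℤ) - 16) * ((Golay.get Y (Golay.get R i) : ℤ) - 16))
    else ((Golay.get X i : ℤ) - 16) * ((Golay.get Y (Golay.get R i) : ℤ) - 16)).sum

/-- The coordinates of a packed vector moved by a signed permutation. -/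
def coI (R m X : ℕ) (i : Fin 6) : ZMod 2 :=
  ∑ j : Fin 6, Gi i j * ((dotI R m X (bas.getD j 0) / 8 : ℤ) : ZMod 2)

theorem dot_signed {R : ℕ} (hR : Golay.valid R = true) {π : Equiv.Perm GolayPt} (e : Golay.permOf R = π) (m X Y : ℕ) :
    dotInt (signedPerm π (Golay.pts m) (decV X)) (decV Y) = dotI R m X Y := by
  rw [dotI, sum_range_idx, dotInt]
  rw [← Equiv.sum_comp π]
  refine Finset.sum_congr rfl fun q _ => ?_
  have he : Golay.idx (π q) = Golay.get R (Golay.idx q) := by rw [← e, Golay.idx_permOf hR]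
  simp only [signedPerm, Equiv.symm_apply_apply, Golay.mem_pts, he, decV]
  split_ifs <;> ring

/-- The pairs of a permutation and a code word describing the stabiliser of the standard cross. -/
def hs : List (ℕ × ℕ) := centL.flatMap fun R => fixC.map fun m => (R, m)

/-- The unit coordinates. -/
def unit6 (k : Fin 6) (i : Fin 6) : ZMod 2 := if i = k then 1 else 0

/-- A signed permutation keeps the first three coordinates, and only a few act trivially on them. -/
def chkH (x : ℕ × ℕ) : Bool :=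
  ([0, 1, 2] : List (Fin 6)).all (fun k =>
    decide (coI x.1 x.2 (bas.getD k 0) 3 = 0) && decide (coI x.1 x.2 (bas.getD k 0) 4 = 0) &&
      decide (coI x.1 x.2 (bas.getD k 0) 5 = 0)) &&
    (!(([0, 1, 2] : List (Fin 6)).all fun k => decide (coI x.1 x.2 (bas.getD k 0) = unit6 k)) ||
      (((List.range 7).any fun i => Nat.beq x.1 (M24Seven.pw i)) && (Nat.beq x.2 0 || Nat.beq x.2 16777215)))

theorem hs_check : hs.all chkH = true := by decide +kernel

theorem cent_sub : (M24Seven.centList7.all fun R => centL.contains R) = true ∧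
    (centL.all fun R => Golay.inM24 R && M24Seven.centList7.contains R) = true := by decide +kernel

theorem fix_code : (Golay.codeList.all fun m =>
    !(Nat.beq (Golay.imgMask (Golay.get M24Seven.g7) m) m) || fixC.contains m) = true ∧
    (fixC.all fun m => Golay.codeList.contains m && Nat.beq (Golay.imgMask (Golay.get M24Seven.g7) m) m) = true := by
  decide +kernel

/-- The linear part of a matrix with first column fixed. -/
def chkCols (u w : Fin 3 → ZMod 2) : Bool :=
  !(decide ((Matrix.of ![![(1 : ZMod 2), u 0, w 0], ![0, u 1, w 1], ![0, u 2, w 2]]).det = 1)) ||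
    hs.any fun x => (decide ((fun i : Fin 3 => coI x.1 x.2 (bas.getD 0 0) (Fin.castLE (by norm_num) i)) =
        (fun i => if i = 0 then 1 else 0)) &&
      decide ((fun i : Fin 3 => coI x.1 x.2 (bas.getD 1 0) (Fin.castLE (by norm_num) i)) = u)) &&
      decide ((fun i : Fin 3 => coI x.1 x.2 (bas.getD 2 0) (Fin.castLE (by norm_num) i)) = w)

theorem cols_check : ∀ u w : Fin 3 → ZMod 2, chkCols u w = true := by decide +kernel

theorem mono_mul_mono {σ τ : Equiv.Perm GolayPt} (hσ : σ ∈ M24) (hτ : τ ∈ M24) {c : Finset GolayPt}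
    (hc : c ∈ supports (golayCode : Set (GolayPt → ZMod 2))) :
    mono hσ hc * mono hτ empty_code = mono (mul_mem hσ hτ) hc ∧
      mono hτ empty_code * mono hσ hc = mono (mul_mem hτ hσ) (smul_supports hτ hc) := by
  constructor
  · refine ext_axis fun i => ?_
    rw [mul_smul, mono_axis hτ, if_neg (Finset.notMem_empty _), mono_axis, mono_axis, Equiv.Perm.mul_apply]
  · refine ext_axis fun i => ?_
    rw [mul_smul, mono_axis hσ, mono_axis (mul_mem hτ hσ), Equiv.Perm.mul_apply]
    have h : τ (σ i) ∈ τ • c ↔ σ i ∈ c := Finset.smul_mem_smul_finset_iff τ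
    split_ifs with h1 h2 h2
    · rw [co_neg, mono_axis, if_neg (Finset.notMem_empty _)]
    · exact absurd (h.2 h1) h2
    · exact absurd (h.1 h2) h1
    · rw [mono_axis, if_neg (Finset.notMem_empty _)]

/-- A signed permutation given by numbers. -/
structure IsH (h : Co0) (x : ℕ × ℕ) : Prop where
  mem : x ∈ hs
  val : ∀ v : leechLattice, ((h • v : leechLattice) : Vec) = signedPerm (Golay.permOf x.1) (Golay.pts x.2) (v : Vec)

theorem exists_isH {h : Co0} (hs' : h ∈ crossStab) (hc : h * P0 = P0 * h) : ∃ x, IsH h x := by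
  classical
  obtain ⟨π, hπ, c, hcc, rfl⟩ := exists_mono hs'
  obtain ⟨e1, e2⟩ := mono_mul_mono hπ M24Seven.gen_mem hcc
  rw [P0, e1, e2] at hc
  obtain ⟨he, hce⟩ := mono_inj _ _ _ _ hc
  obtain ⟨R, hR, eR⟩ := M24Seven.mem_conjList (k := 1) hπ (by rw [pow_one]; exact he)
  obtain ⟨m, hm, rfl⟩ := Golay.mem_supports.1 hcc
  have hm' : Golay.imgMask (Golay.get M24Seven.g7) m = m := by
    have hv := M24Seven.g7_checks.2.1
    refine Golay.pts_injOn (Golay.Aut.imgMask_lt hv m) (Golay.codeList_lt hm) ?_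
    rw [← Golay.permOf_smul_pts hv]
    exact hce.symm
  have hmf : m ∈ fixC := by
    have h1 := List.all_eq_true.1 fix_code.1 m hm
    rw [hm'] at h1
    simpa using h1
  have hRc : R ∈ centL := by simpa using List.all_eq_true.1 cent_sub.1 R hR
  refine ⟨(R, m), List.mem_flatMap.2 ⟨R, hRc, List.mem_map.2 ⟨m, hmf, rfl⟩⟩, fun v => ?_⟩
  rw [mono_apply, eR]

theorem exists_of_hs {x : ℕ × ℕ} (hx : x ∈ hs) :
    ∃ h : Co0, h ∈ crossStab ∧ h * P0 = P0 * h ∧ IsH h x := by
  obtain ⟨R, hR, hx'⟩ := List.mem_flatMap.1 hx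
  obtain ⟨m, hm, rfl⟩ := List.mem_map.1 hx'
  have h1 := List.all_eq_true.1 cent_sub.2 R hR
  simp only [Bool.and_eq_true, List.contains_iff_mem] at h1
  have h2 := List.all_eq_true.1 fix_code.2 m hm
  simp only [Bool.and_eq_true, List.contains_iff_mem, Nat.beq_eq] at h2
  have hπ := Golay.permOf_mem_M24 h1.1
  have he := M24Seven.of_conjList (k := 1) h1.2 h1.1
  rw [pow_one] at he
  have hc : Golay.pts m ∈ supports (golayCode : Set (GolayPt → ZMod 2)) := Golay.mem_supports.2 ⟨m, h2.1, rfl⟩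
  refine ⟨mono hπ hc, mono_mem hπ hc, ?_, hx, fun v => rfl⟩
  obtain ⟨e1, e2⟩ := mono_mul_mono hπ M24Seven.gen_mem hc
  rw [P0, e1, e2]
  have hsm : M24Seven.gen • Golay.pts m = Golay.pts m := by
    rw [M24Seven.gen, Golay.permOf_smul_pts M24Seven.g7_checks.2.1, h2.2]
  refine ext_axis fun i => ?_
  rw [mono_axis, mono_axis, he, hsm]

/-- The action on the fixed classes. -/
def A (g : Cent P0) : Matrix (Fin 6) (Fin 6) (ZMod 2) :=
  Matrix.of fun i k => co Bs Gi ((g : Co0) • Bs k) i

theorem A_mulVec (g : Cent P0) {v : leechLattice} (hv : Fixed P0 v) (i : Fin 6) :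
    co Bs Gi ((g : Co0) • v) i = ∑ k, A g i k * co Bs Gi v k := by
  rw [co_congr (congr_smul (g := (g : Co0)) (fix.eq_comb hv))]
  show coHom' Bs Gi ((g : Co0) • comb Bs _) i = _
  rw [comb, co_sum, map_sum, Finset.sum_apply]
  refine Finset.sum_congr rfl fun k _ => ?_
  have h2 : ∀ a : ZMod 2, a = 0 ∨ a = 1 := by decide
  rcases h2 (co Bs Gi v k) with e | e <;> rw [e]
  · rw [if_neg (by decide), co_zero, map_zero, Pi.zero_apply, mul_zero]
  · rw [if_pos rfl, mul_one]; rfl

theorem fixed_smul (g : Cent P0) {v : leechLattice} (hv : Fixed P0 v) : Fixed P0 ((g : Co0) • v) :=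
  Fixed.of_comm (mem_Cent.1 g.2) hv

theorem A_mul (g h : Cent P0) : A (g * h) = A g * A h := by
  ext i k
  show co Bs Gi (((g : Co0) * (h : Co0)) • Bs k) i = _
  rw [mul_smul, A_mulVec g (fixed_smul h (fix.fix k)), Matrix.mul_apply]
  rfl

theorem A_one : A 1 = 1 := by
  ext i k
  show co Bs Gi ((1 : Co0) • Bs k) i = _
  rw [one_smul, fix.gram, Matrix.one_apply]

/-- The inclusion of the first three coordinates. -/
abbrev low (k : Fin 3) : Fin 6 := Fin.castLE (by norm_num) k

theorem A_of_isH {g : Cent P0} {x : ℕ × ℕ} (hg : IsH (g : Co0) x) (i k : Fin 6) :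
    A g i k = coI x.1 x.2 (bas.getD k 0) i := by
  obtain ⟨R, hR, hx'⟩ := List.mem_flatMap.1 hg.mem
  obtain ⟨m, hm, rfl⟩ := List.mem_map.1 hx'
  have h1 := List.all_eq_true.1 cent_sub.2 R hR
  simp only [Bool.and_eq_true] at h1
  have hv := M24Seven.valid_of_inM24 h1.1
  show co Bs Gi ((g : Co0) • Bs k) i = _
  simp only [co, coI, hg.val]
  refine Finset.sum_congr rfl fun j _ => ?_
  rw [← dot_signed hv rfl]
  rfl

/-- The rows carrying the first coordinates to themselves. -/
def chkLow (x : ℕ × ℕ × List ℕ) : Bool :=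
  !(Nat.beq x.2.1 1) || ([0, 1, 2] : List (Fin 6)).all fun k =>
    decide (sqNorm (decV (bas.getD k 0)) ≤ 64) && decide (coX (CoSuz.colP x.2.2 (bas.getD k 0)) 3 = 0) &&
      decide (coX (CoSuz.colP x.2.2 (bas.getD k 0)) 4 = 0) && decide (coX (CoSuz.colP x.2.2 (bas.getD k 0)) 5 = 0)

theorem low_maps : maps.all chkLow = true ∧ (∀ k : Fin 6, encV (decV (bas.getD k 0)) = bas.getD k 0) := by
  decide +kernel

theorem high_of {g : Cent P0} (k : Fin 3) (h : A g 3 (low k) = 0 ∧ A g 4 (low k) = 0 ∧ A g 5 (low k) = 0) (i : Fin 6)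
    (hi : 3 ≤ i.val) : A g i (low k) = 0 := by
  obtain ⟨h3, h4, h5⟩ := h
  fin_cases i <;> simp at hi <;> assumption

theorem low_list : ∀ k : Fin 3, low k ∈ ([0, 1, 2] : List (Fin 6)) := by decide

theorem isH_high {g : Cent P0} {x : ℕ × ℕ} (hg : IsH (g : Co0) x) (k : Fin 3) (i : Fin 6) (hi : 3 ≤ i.val) :
    A g i (low k) = 0 := by
  refine high_of k ?_ i hi
  have h := List.all_eq_true.1 hs_check x hg.mem
  simp only [chkH, Bool.and_eq_true, List.all_eq_true, decide_eq_true_eq] at h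
  obtain ⟨⟨h3, h4⟩, h5⟩ := h.1 (low k) (low_list k)
  simp only [A_of_isH hg]
  exact ⟨h3, h4, h5⟩

theorem map_comm {x : ℕ × ℕ × List ℕ} (hx : x ∈ maps) (h1 : x.2.1 = 1) : mapC x ∈ Cent P0 := by
  have h := (mapC_spec hx).1
  rw [h1, pow_one] at h
  exact mem_Cent.2 h.symm

theorem map_high {x : ℕ × ℕ × List ℕ} (hx : x ∈ maps) (h1 : x.2.1 = 1) (k : Fin 3) (i : Fin 6) (hi : 3 ≤ i.val) :
    A ⟨mapC x, map_comm hx h1⟩ i (low k) = 0 := by
  refine high_of k ?_ i hi
  have h := List.all_eq_true.1 maps_check x hx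
  simp only [chkMap, Bool.and_eq_true, decide_eq_true_eq] at h
  have hM : HasT (mapC x) x.2.2 := CoSuz.hasT_ofT h.1.1.1.1.1
  have h' := List.all_eq_true.1 low_maps.1 x hx
  simp only [chkLow, h1, Bool.or_eq_true, Bool.not_eq_true', Bool.and_eq_true, List.all_eq_true,
    decide_eq_true_eq] at h'
  obtain ⟨⟨⟨hn, h3⟩, h4⟩, h5⟩ := (h'.resolve_left (by simp)) (low k) (low_list k)
  have he : ((mapC x • Bs (low k) : leechLattice) : Vec) = decV (CoSuz.colP x.2.2 (bas.getD (low k) 0)) := by
    have h6 := hM.app (v := Bs (low k)) hn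
    rw [show ((Bs (low k) : leechLattice) : Vec) = decV (bas.getD (low k) 0) from rfl, low_maps.2] at h6
    rw [h6, CoSuz.decV_encV (small_of_norm (by rw [co_norm]; exact hn))]
  refine ⟨?_, ?_, ?_⟩
  all_goals
    show co Bs Gi (mapC x • Bs (low k)) _ = 0
    rw [co_mkV _ _ he]
    assumption

theorem bits_low {m : ℕ} (hm : m < 8) : ∀ i : Fin 6, 3 ≤ i.val → bits m i = 0 := by
  have h : ∀ m < 8, ∀ i : Fin 6, 3 ≤ i.val → bits m i = 0 := by decide +kernel
  exact h m hm

theorem maps_shape : (∀ x ∈ maps, x.2.1 = 1 ∧ x.1 < 8 ∧ 0 < x.1 ∨ x.2.1 = 6 ∧ 8 ≤ x.1) ∧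
    (∀ m < 8, 0 < m → ∃ x ∈ maps, x.1 = m ∧ x.2.1 = 1) ∧ M24Seven.conjList (M24Seven.pw 6) = [] := by
  decide +kernel

/-- Every commuting automorphism is a listed one after one stabilising the standard cross. -/
theorem decomp (g : Cent P0) : ∃ (a : ℕ × ℕ × List ℕ) (ha : a ∈ maps) (h1 : a.2.1 = 1) (h : Cent P0) (x : ℕ × ℕ),
    IsH (h : Co0) x ∧ g = ⟨mapC a, map_comm ha h1⟩ * h := by
  obtain ⟨a, ha, hco⟩ := frame_mask (fixed_smul g (axis_fixed none)) (by rw [co_norm, axis_norm])
  obtain ⟨hPM, hMa, -, -, -⟩ := mapC_spec ha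
  have hcls : ∀ hM : Fixed P0 (mapC a • axis none),
      (mapC a)⁻¹ * (g : Co0) ∈ crossStab := fun hM => by
    rw [← stabC_eq_crossStab none, mem_stabC, mul_smul]
    have h2 := (fix.co_inj (fixed_smul g (axis_fixed none)) hM).1 (hco.trans hMa.symm)
    rw [congr_smul h2, inv_smul_smul]
  rcases maps_shape.1 a ha with ⟨h1, -⟩ | ⟨h6, -⟩
  · have hC := map_comm ha h1
    have hst := hcls (fixed_smul ⟨_, hC⟩ (axis_fixed none))
    obtain ⟨x, hx⟩ := exists_isH hst (mem_Cent.1 (mul_mem (inv_mem hC) g.2))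
    exact ⟨a, ha, h1, ⟨_, mul_mem (inv_mem hC) g.2⟩, x, hx, Subtype.ext (mul_inv_cancel_left _ _).symm⟩
  · exfalso
    have hM : Fixed P0 (mapC a • axis none) := by
      show cls (P0 • mapC a • axis none) = _
      rw [← mul_smul, hPM, mul_smul]
      exact congr_smul ((axis_fixed none).pow _)
    obtain ⟨π, hπ, c, hc, e⟩ := exists_mono (hcls hM)
    have hg := mem_Cent.1 g.2
    have hkey : (mapC a)⁻¹ * (g : Co0) * P0 = P0 ^ 6 * ((mapC a)⁻¹ * (g : Co0)) := by
      rw [h6] at hPM
      calc (mapC a)⁻¹ * (g : Co0) * P0 = (mapC a)⁻¹ * (P0 * (g : Co0)) := by rw [mul_assoc, hg]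
        _ = (mapC a)⁻¹ * (P0 * mapC a) * ((mapC a)⁻¹ * (g : Co0)) := by group
        _ = _ := by rw [hPM, inv_mul_cancel_left]
    rw [e, P0, mono_pow] at hkey
    obtain ⟨e1, -⟩ := mono_mul_mono hπ M24Seven.gen_mem hc
    obtain ⟨-, e2⟩ := mono_mul_mono hπ (pow_mem M24Seven.gen_mem 6) hc
    rw [e1, e2] at hkey
    obtain ⟨he, -⟩ := mono_inj _ _ _ _ hkey
    obtain ⟨R, hR, -⟩ := M24Seven.mem_conjList hπ he
    rw [maps_shape.2.2] at hR
    simp at hR

theorem A_low_mul (g h : Cent P0) (hh : ∀ (k : Fin 3) (i : Fin 6), 3 ≤ i.val → A h i (low k) = 0) (i : Fin 6)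
    (k : Fin 3) : A (g * h) i (low k) = ∑ l : Fin 3, A g i (low l) * A h (low l) (low k) := by
  rw [A_mul, Matrix.mul_apply, Fin.sum_univ_six, Fin.sum_univ_three, hh k 3 (by decide), hh k 4 (by decide),
    hh k 5 (by decide), mul_zero, mul_zero, mul_zero, add_zero, add_zero, add_zero]
  rfl

theorem high (g : Cent P0) (k : Fin 3) (i : Fin 6) (hi : 3 ≤ i.val) : A g i (low k) = 0 := by
  obtain ⟨a, ha, h1, h, x, hx, rfl⟩ := decomp g
  rw [A_low_mul _ _ (isH_high hx)]
  exact Finset.sum_eq_zero fun l _ => by rw [map_high ha h1 l i hi, zero_mul]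

/-- The action on the first three coordinates. -/
def blk (g : Cent P0) : Matrix (Fin 3) (Fin 3) (ZMod 2) := Matrix.of fun i k => A g (low i) (low k)

theorem blk_mul (g h : Cent P0) : blk (g * h) = blk g * blk h := by
  ext i k
  rw [Matrix.mul_apply]
  exact A_low_mul g h (high h) (low i) k

theorem low_inj : ∀ i k : Fin 3, low i = low k ↔ i = k := by decide

theorem blk_one : blk 1 = 1 := by
  ext i k
  show A 1 (low i) (low k) = _
  rw [A_one, Matrix.one_apply, Matrix.one_apply, if_congr (low_inj i k) rfl rfl]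

theorem blk_det (g : Cent P0) : (blk g).det = 1 := by
  have h := congrArg Matrix.det (blk_mul g g⁻¹)
  rw [mul_inv_cancel, blk_one, Matrix.det_one, Matrix.det_mul] at h
  have h2 : ∀ a b : ZMod 2, 1 = a * b → a = 1 := by decide
  exact h2 _ _ h

/-- The map onto the special linear group. -/
def rho : Cent P0 →* Matrix.SpecialLinearGroup (Fin 3) (ZMod 2) :=
  MonoidHom.mk' (fun g => ⟨blk g, blk_det g⟩) fun g h => Subtype.ext (blk_mul g h)

theorem rho_eq_one {g : Cent P0} : rho g = 1 ↔ blk g = 1 :=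
  ⟨fun h => congrArg Subtype.val h, fun h => Subtype.ext h⟩

theorem rho_fixes {g : Cent P0} (h : ∀ k, cls ((g : Co0) • Bs k) = cls (Bs k)) : rho g = 1 := by
  rw [rho_eq_one]
  ext i k
  show co Bs Gi ((g : Co0) • Bs (low k)) (low i) = _
  rw [co_congr (h _), fix.gram, Matrix.one_apply, if_congr (low_inj i k) rfl rfl]

theorem col_zero (g : Cent P0) (i : Fin 3) : blk g i 0 = co Bs Gi ((g : Co0) • axis none) (low i) := by
  show co Bs Gi ((g : Co0) • Bs 0) (low i) = _
  have h0 : co Bs Gi (axis none) = co Bs Gi (Bs 0) := by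
    have hb : ((Bs 0 : leechLattice) : Vec) = Pi.single (Golay.pt 7) 8 := by decide +kernel
    exact (co_congr (Baby.cls_axis none (Golay.pt 7))).trans (co_congr (congrArg cls (Subtype.ext hb.symm)))
  rw [A_mulVec g (axis_fixed none), A_mulVec g (fix.fix 0), h0]

theorem first_of_isH {g : Cent P0} (hg : (g : Co0) ∈ crossStab) (i : Fin 3) : blk g i 0 = if i = 0 then 1 else 0 := by
  rw [col_zero, co_congr (show cls ((g : Co0) • axis none) = cls (axis none) from
    (by have h := hg; rw [← stabC_eq_crossStab none, mem_stabC] at h; exact h)), ← show co Bs Gi ((1 : Cent P0) • axis none) = co Bs Gi (axis none) from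
      congrArg _ (one_smul Co0 _)]
  have := col_zero 1 i
  rw [blk_one, Matrix.one_apply] at this
  exact this.symm

theorem rho_surjective : Function.Surjective rho := by
  rintro ⟨X, hX⟩
  -- choose the image of the first vector
  have hcol : ∀ u : Fin 3 → ZMod 2, u = 0 ∨ ∃ m, m < 8 ∧ 0 < m ∧ ∀ i : Fin 3, bits m (low i) = u i := by
    decide +kernel
  obtain hc | ⟨m, hm8, hm0, hm⟩ := hcol fun i => X i 0
  · exfalso
    rw [Matrix.det_eq_zero_of_column_eq_zero 0 (congrFun hc)] at hX
    exact absurd hX (by decide)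
  obtain ⟨a, ha, rfl, h1⟩ := maps_shape.2.1 m hm8 hm0
  let M : Cent P0 := ⟨mapC a, map_comm ha h1⟩
  let Y : Matrix (Fin 3) (Fin 3) (ZMod 2) := blk M⁻¹ * X
  have hY : Y.det = 1 := by rw [Matrix.det_mul, blk_det, hX, one_mul]
  have hXM : blk M * Y = X := by
    rw [← Matrix.mul_assoc, ← blk_mul, mul_inv_cancel, blk_one, Matrix.one_mul]
  have hY0 : ∀ i, Y i 0 = if i = 0 then 1 else 0 := by
    intro i
    have e : (fun i => X i 0) = fun i => blk M i 0 := funext fun i => by
      rw [col_zero]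
      show _ = co Bs Gi (mapC a • axis none) (low i)
      rw [(mapC_spec ha).2.1, hm]
    show ∑ l, blk M⁻¹ i l * X l 0 = _
    calc ∑ l, blk M⁻¹ i l * X l 0 = (blk M⁻¹ * blk M) i 0 := by
          rw [Matrix.mul_apply]; exact Finset.sum_congr rfl fun l _ => by rw [congrFun e l]
      _ = _ := by rw [← blk_mul, inv_mul_cancel, blk_one, Matrix.one_apply]
  have hdet : (Matrix.of ![![(1 : ZMod 2), Y 0 1, Y 0 2], ![0, Y 1 1, Y 1 2], ![0, Y 2 1, Y 2 2]]).det = 1 := by
    refine Eq.trans (congrArg Matrix.det ?_) hY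
    ext i j
    fin_cases i <;> fin_cases j <;> simp [hY0]
  have hc := cols_check (fun i => Y i 1) fun i => Y i 2
  simp only [chkCols, hdet, decide_true, Bool.not_true, Bool.false_or, List.any_eq_true, Bool.and_eq_true,
    decide_eq_true_eq] at hc
  obtain ⟨x, hx, ⟨h0, h1'⟩, h2⟩ := hc
  obtain ⟨h, -, hcomm, hIs⟩ := exists_of_hs hx
  refine ⟨M * ⟨h, mem_Cent.2 hcomm⟩, Subtype.ext ?_⟩
  show blk _ = X
  rw [blk_mul, ← hXM]
  congr 1
  ext i k
  show A _ (low i) (low k) = _
  rw [A_of_isH hIs]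
  fin_cases k
  · exact (congrFun h0 i).trans (hY0 i).symm
  · exact congrFun h1' i
  · exact congrFun h2 i

theorem rho_ker (g : Cent P0) (hg : rho g = 1) : ∃ i : ℕ, (g : Co0) = P0 ^ i ∨ (g : Co0) = negCo * P0 ^ i := by
  rw [rho_eq_one] at hg
  have hA : ∀ k : Fin 3, ∀ i : Fin 6, A g i (low k) = unit6 (low k) i := fun k i => by
    by_cases hi : 3 ≤ i.val
    · rw [high g k i hi, unit6, if_neg]
      intro e
      have := congrArg Fin.val e
      simp at this
      omega
    · obtain ⟨i', rfl⟩ : ∃ i' : Fin 3, low i' = i := ⟨⟨i.val, by omega⟩, Fin.ext rfl⟩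
      have := congrFun (congrFun hg i') k
      rw [Matrix.one_apply] at this
      rw [unit6, if_congr (low_inj i' k) rfl rfl]
      exact this
  have hst : (g : Co0) ∈ crossStab := by
    rw [← stabC_eq_crossStab none, mem_stabC]
    refine (fix.co_inj (fixed_smul g (axis_fixed none)) (axis_fixed none)).1 (funext fun i => ?_)
    have hb : ((Bs 0 : leechLattice) : Vec) = Pi.single (Golay.pt 7) 8 := by decide +kernel
    have h0 : cls (axis none) = cls (Bs 0) := (Baby.cls_axis none (Golay.pt 7)).trans (congrArg cls (Subtype.ext hb.symm))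
    rw [co_congr (congr_smul (g := (g : Co0)) h0), co_congr h0, fix.gram]
    exact hA 0 i
  obtain ⟨x, hx⟩ := exists_isH hst (mem_Cent.1 g.2)
  have h := List.all_eq_true.1 hs_check x hx.mem
  simp only [chkH, Bool.and_eq_true, Bool.or_eq_true, Bool.not_eq_true', List.any_eq_true, List.mem_range,
    Nat.beq_eq] at h
  obtain ⟨⟨j, -, hj⟩, hm⟩ := h.2.resolve_left fun hf => by
    rw [List.all_eq_false] at hf
    obtain ⟨k, hk, hne⟩ := hf
    simp only [decide_eq_true_eq] at hne
    refine hne ?_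
    obtain ⟨k', rfl⟩ : ∃ k' : Fin 3, low k' = k := by
      simp only [List.mem_cons, List.not_mem_nil, or_false] at hk
      rcases hk with rfl | rfl | rfl
      exacts [⟨0, rfl⟩, ⟨1, rfl⟩, ⟨2, rfl⟩]
    funext i
    rw [← A_of_isH hx]
    exact hA k' i
  refine ⟨j, ?_⟩
  have hp : Golay.permOf x.1 = M24Seven.gen ^ j := by rw [hj, (M24Seven.pw_spec j).2]
  rw [show P0 ^ j = mono (pow_mem M24Seven.gen_mem j) empty_code from mono_pow _ j]
  rcases hm with hm | hm
  · left
    refine ext_axis fun i => Subtype.ext ?_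
    rw [hx.val, hm, hp, mono_apply, show Golay.pts 0 = ∅ by decide +kernel]
  · right
    refine ext_axis fun i => Subtype.ext ?_
    rw [hx.val, hm, hp, mul_smul, negCo_apply, AddSubgroup.coe_neg, mono_apply,
      show Golay.pts 16777215 = Finset.univ by decide +kernel]
    funext q
    simp [signedPerm]

theorem core (N : Subgroup (Matrix.SpecialLinearGroup (Fin 3) (ZMod 2))) (hN : N.Normal) (hp : IsPGroup 2 N) :
    N = ⊥ := by
  haveI : Fact (Nat.Prime 2) := ⟨Nat.prime_two⟩
  haveI := Cfsg.Agent.Classical.PSL_isSimple (F := ZMod 2) (n := 3) (by norm_num) (by norm_num)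
  have hcen : Subgroup.center (Matrix.SpecialLinearGroup (Fin 3) (ZMod 2)) = ⊥ := by
    refine Subgroup.eq_bot_of_card_eq _ ?_
    rw [Cfsg.Agent.Classical.natCard_center_SL, Cfsg.Agent.Classical.natCard_units_field, ZMod.card]
    norm_num
  have hinj : Function.Injective
      (QuotientGroup.mk' (Subgroup.center (Matrix.SpecialLinearGroup (Fin 3) (ZMod 2)))) := by
    rw [← MonoidHom.ker_eq_bot_iff, QuotientGroup.ker_mk', hcen]
  rcases ((hN.map _ (QuotientGroup.mk'_surjective
      (Subgroup.center (Matrix.SpecialLinearGroup (Fin 3) (ZMod 2)))))).eq_bot_or_eq_top with h | h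
  · exact (Subgroup.map_eq_bot_iff_of_injective N hinj).1 h
  · exfalso
    obtain ⟨k, hk⟩ := hp.exists_card_eq
    have h1 := Subgroup.card_map_of_injective (K := N) hinj
    rw [h, Subgroup.card_top, ← Nat.card_congr (Equiv.ofBijective _ ⟨hinj, QuotientGroup.mk'_surjective _⟩),
      Grp.TwoSymFour.card_SL, hk] at h1
    have h3 : 3 ∣ 2 ^ k := h1 ▸ by norm_num
    exact absurd ((Nat.Prime.dvd_of_dvd_pow (by norm_num) h3)) (by norm_num)

theorem quot : Quot P0 Bs rho where
  surj := rho_surjective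
  gen _ := rho_fixes fun k => fix.fix k
  neg _ := rho_fixes fun k => by
    show cls (negCo • Bs k) = _
    rw [negCo_apply]; exact Baby.cls_neg _
  ker := rho_ker
  faith _ h := rho_fixes h
  core := core

end Cfsg.Agent.Spor.Leech.SevenFix

end
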