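import Cfsg.Agent.Lib.Spor.Leech.OddFix.Fusion
import Cfsg.Agent.Lib.Spor.M24SevenNorm
import Cfsg.Agent.Lib.Spor.Leech.SevenFix.Data

/-!
The classes of the rank 24 lattice modulo two fixed by a coordinate permutation of order seven.
-/

set_option autoImplicit false
set_option maxRecDepth 100000

noncomputable section

namespace Cfsg.Agent.Spor.Leech.SevenFix

open Cfsg Cfsg.Agent.Spor.Leech.OddFix
open Cfsg.Agent.Spor.CoSuz (decV HasT)

/-- The automorphism. -/
def P0 : Co0 := mono M24Seven.gen_mem empty_code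

theorem bas_inL : ∀ k : Fin 6, inL (decV (bas.getD k 0)) = true := by decide +kernel

/-- The basis. -/
def Bs (k : Fin 6) : leechLattice := mkV (bas.getD k 0) (bas_inL k)

/-- The inverse of the product matrix. -/
def Gi (i j : Fin 6) : ZMod 2 := if (giL.getD i 0).testBit j then 1 else 0

/-- Coordinates from a mask. -/
def bits (m : ℕ) (k : Fin 6) : ZMod 2 := if m.testBit k then 1 else 0

/-- The coordinates of a packed vector. -/
def coX (X : ℕ) (i : Fin 6) : ZMod 2 :=
  ∑ j : Fin 6, Gi i j * ((dotInt (decV X) (decV (bas.getD j 0)) / 8 : ℤ) : ZMod 2)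

theorem co_mkV (v : leechLattice) (X : ℕ) (h : (v : Vec) = decV X) : co Bs Gi v = coX X := by
  funext i
  rw [co, h]
  rfl

/-- A packed vector is fixed. -/
def chkFixV (X : ℕ) : Bool :=
  decide (∀ q, decV X (Golay.pt (Golay.get M24Seven.g7 (Golay.idx q))) = decV X q)

theorem gen_apply (q : GolayPt) : M24Seven.gen q = Golay.pt (Golay.get M24Seven.g7 (Golay.idx q)) :=
  Golay.idx_injective (by
    rw [M24Seven.gen, Golay.idx_permOf M24Seven.g7_checks.2.1,
      Golay.idx_pt ((Golay.valid_iff.mp M24Seven.g7_checks.2.1).2 _ (Golay.idx_lt q))])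

theorem fixed_of_chk {X : ℕ} {v : leechLattice} (hv : (v : Vec) = decV X) (h : chkFixV X = true) : Fixed P0 v := by
  rw [chkFixV, decide_eq_true_eq] at h
  unfold Fixed
  have e : P0 • v = v := Subtype.ext (funext fun q => by
    rw [P0, mono_apply, signedPerm, if_neg (Finset.notMem_empty _), hv]
    have h1 := h (M24Seven.gen.symm q)
    rw [← gen_apply, Equiv.apply_symm_apply] at h1
    exact h1.symm)
  rw [e]

theorem bas_fix : ∀ k : Fin 6, chkFixV (bas.getD k 0) = true := by decide +kernel

theorem gram_check : ∀ i k : Fin 6, coX (bas.getD k 0) i = if i = k then 1 else 0 := by decide +kernel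

/-- The powers used for the sums. -/
def pinv (i : ℕ) : ℕ := M24Seven.pw (7 - i)

theorem pinv_spec : ∀ i < 7, ∀ q, Golay.pt (Golay.get (pinv i) (Golay.idx q)) = (M24Seven.gen ^ i).symm q := by
  intro i hi q
  obtain ⟨hv, hp⟩ := M24Seven.pw_spec (7 - i)
  have e : M24Seven.gen ^ (7 - i) = (M24Seven.gen ^ i)⁻¹ := by
    refine eq_inv_of_mul_eq_one_right ?_
    rw [← pow_add, Nat.add_sub_cancel' hi.le, ← M24Seven.order_gen, pow_orderOf_eq_one]
  refine Golay.idx_injective ?_
  rw [pinv, Golay.idx_pt ((Golay.valid_iff.mp hv).2 _ (Golay.idx_lt q)), ← Golay.idx_permOf hv, hp, e]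
  rfl

theorem span_check : ((CoSuz.latGens.zip wit).all fun la => chkSpan 7 6 pinv bas la.1 la.2) = true := by
  decide +kernel

theorem fix : Fix P0 7 Bs Gi where
  odd := rfl
  fix k := fixed_of_chk (X := bas.getD k 0) rfl (bas_fix k)
  gram i k := by rw [co_mkV (Bs k) _ rfl]; exact gram_check i k
  span := span_of_check M24Seven.gen_mem pinv_spec (fun _ => rfl) (by decide +kernel) span_check

theorem P0_pow : P0 ^ 7 = 1 := by
  rw [P0, mono_pow]
  refine ext_axis fun i => ?_
  rw [mono_axis, if_neg (Finset.notMem_empty _), one_smul,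
    show M24Seven.gen ^ 7 = 1 by rw [← M24Seven.order_gen, pow_orderOf_eq_one], Equiv.Perm.one_apply]

theorem axis_fixed (i : GolayPt) : Fixed P0 (axis i) := by
  unfold Fixed
  rw [P0, mono_axis, if_neg (Finset.notMem_empty _)]
  exact Baby.cls_axis _ _

theorem low_check : (lows.all fun x => inL (decV x.2) && chkFixV x.2 &&
    decide (coX x.2 = bits x.1) && decide (sqNorm (decV x.2) = 32 ∨ sqNorm (decV x.2) = 48)) = true := by
  decide +kernel

theorem masks_check : ∀ a : Fin 6 → ZMod 2, (decide (a = 0) || (lows.any fun x => decide (bits x.1 = a)) ||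
    (maps.any fun x => decide (bits x.1 = a))) = true := by decide +kernel

/-- The coordinates of a fixed class of norm 64 are among the listed ones. -/
theorem frame_mask {v : leechLattice} (hv : Fixed P0 v) (hn : sqNorm (v : Vec) = 64) :
    ∃ x ∈ maps, co Bs Gi v = bits x.1 := by
  have h := masks_check (co Bs Gi v)
  simp only [Bool.or_eq_true, decide_eq_true_eq, List.any_eq_true] at h
  rcases h with (h | ⟨x, hx, h⟩) | ⟨x, hx, h⟩
  · exfalso
    have h0 : cls v = cls 0 := (fix.co_inj hv Fixed.zero).1 (by rw [h, co_zero'])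
    have hz : sqNorm ((0 : leechLattice) : Vec) = 0 := by simp [sqNorm]
    rcases congr_short v.2 (0 : leechLattice).2 (by omega) (by omega) (cls_eq.1 h0) with e | e | ⟨-, e, -⟩
    · rw [e] at hn; omega
    · rw [e, norm_neg] at hn; omega
    · omega
  · exfalso
    have hc := List.all_eq_true.1 low_check x hx
    simp only [Bool.and_eq_true, decide_eq_true_eq] at hc
    obtain ⟨⟨⟨hi, hf⟩, hco⟩, hnorm⟩ := hc
    let w : leechLattice := mkV x.2 hi
    have hw : Fixed P0 w := fixed_of_chk rfl hf
    have h0 : cls v = cls w := (fix.co_inj hv hw).1 (by rw [co_mkV w x.2 rfl, hco, h])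
    have hwn : sqNorm (w : Vec) = 32 ∨ sqNorm (w : Vec) = 48 := hnorm
    rcases congr_short v.2 w.2 (by omega) (by omega) (cls_eq.1 h0) with e | e | ⟨-, e, -⟩
    · rw [e] at hn; omega
    · rw [e, norm_neg] at hn; omega
    · omega
  · exact ⟨x, hx, h.symm⟩

/-- The rows of a coordinate permutation. -/
def permP (R : ℕ) : List ℕ :=
  (List.range 24).map fun i => Golay.pack 24 fun j => if j = Golay.get R i then 24 else 16

theorem hasT_perm {R : ℕ} (hR : Golay.valid R = true) {π : Equiv.Perm GolayPt} (hπ : π ∈ M24)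
    (e : Golay.permOf R = π) : HasT (mono hπ empty_code) (permP R) where
  len := by simp [permP]
  img q := by
    rw [permP, List.getD_eq_getElem?_getD, List.getElem?_map, List.getElem?_range (Golay.idx_lt q),
      Option.map_some, Option.getD_some, mono_axis, if_neg (Finset.notMem_empty _), axis_val, encV]
    refine pack_congr 24 _ _ fun j hj => ?_
    have he : Golay.idx (π q) = Golay.get R (Golay.idx q) := by rw [← e, Golay.idx_permOf hR]
    by_cases hjq : j = Golay.get R (Golay.idx q)
    · rw [if_pos hjq, hjq, ← he, Golay.pt_idx, Pi.single_eq_same]; rfl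
    · rw [if_neg hjq, Pi.single_eq_of_ne]
      · rfl
      · intro h
        exact hjq (by rw [← he, ← h, Golay.idx_pt hj])

/-- The rows are those of an automorphism with the stated behaviour. -/
def chkMap (x : ℕ × ℕ × List ℕ) : Bool :=
  CoSuz.chkT x.2.2 && decide (x.2.1 < 7) && decide (0 < x.2.1) && decide (x.1 < 64) &&
    decide (CoSuz.mulP (permP M24Seven.g7) x.2.2 = CoSuz.mulP x.2.2 (permP (M24Seven.pw x.2.1))) &&
    decide (coX (x.2.2.getD (Golay.idx (none : GolayPt)) 0) = bits x.1)

theorem maps_check : maps.all chkMap = true := by decide +kernel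

/-- The automorphism of a listed map. -/
def mapC (x : ℕ × ℕ × List ℕ) : Co0 := CoSuz.ofT x.2.2

theorem mapC_spec {x : ℕ × ℕ × List ℕ} (hx : x ∈ maps) :
    P0 * mapC x = mapC x * P0 ^ x.2.1 ∧ co Bs Gi (mapC x • axis none) = bits x.1 ∧
      x.1 < 64 ∧ 0 < x.2.1 ∧ x.2.1 < 7 := by
  have h := List.all_eq_true.1 maps_check x hx
  simp only [chkMap, Bool.and_eq_true, decide_eq_true_eq] at h
  obtain ⟨⟨⟨⟨⟨hT, h7⟩, h0⟩, h64⟩, hmul⟩, hco⟩ := h
  have hM : HasT (mapC x) x.2.2 := CoSuz.hasT_ofT hT
  have hP : HasT P0 (permP M24Seven.g7) := hasT_perm M24Seven.g7_checks.2.1 M24Seven.gen_mem rfl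
  have hPr : HasT (P0 ^ x.2.1) (permP (M24Seven.pw x.2.1)) := by
    rw [P0, mono_pow]
    exact hasT_perm (M24Seven.pw_spec _).1 (pow_mem M24Seven.gen_mem _) (M24Seven.pw_spec _).2
  refine ⟨(hmul ▸ hP.mul hM).eq (hM.mul hPr), ?_, h64, h0, h7⟩
  rw [← hco]
  refine co_mkV _ _ ?_
  rw [hM.img, CoSuz.decV_encV (CoSuz.small_axis _ _)]

end Cfsg.Agent.Spor.Leech.SevenFix

end
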