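import Cfsg.Agent.Lib.Spor.Leech.SevenFix.Model
import Cfsg.Agent.Lib.Fus.HeUniq.FrameExists
import Cfsg.Agent.Lib.Spor.TransvectionFive

/-!
# Coordinates from a frame, and the frame of a transvection
-/

set_option autoImplicit false
set_option linter.style.haveILetI false
set_option maxRecDepth 100000

namespace Cfsg.Agent.Spor.Leech.SevenFix.HeModel

open Cfsg.Agent.Fus.HeUniq
open Matrix
open Cfsg.Agent.Spor.TransvectionFive (Par mk mk_mul mk_one mk_injective exists_mk isUnit_block det_mk tv tv_eq mk_commute mem_iff)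

theorem coords_of_frame {H : Type*} [Group H] [Finite H] {Q : Subgroup H} [Q.Normal] {z : H} {x w : Fin 3 → H}
    (fr : Frame z x w) (hxQ : ∀ i, x i ∈ Q) (hwQ : ∀ i, w i ∈ Q) (hzQ : z ∈ Q) (hcard : Nat.card Q = 2 ^ 7)
    (hcent : Subgroup.centralizer (Q : Set H) ≤ Q) (e : H ⧸ Q ≃* SL3) :
    ∃ (b tw : Bool) (φ : H → ℕ), Coords H Q z b tw φ := by
  have hb : ∀ (g : H) (c : Bool), g ∈ Q → bpow g c ∈ Q := fun g c hg => by
    cases c
    exacts [one_mem _, hg]
  have hmem : ∀ n, theta z x w n ∈ Q := fun n =>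
    mul_mem (mul_mem (mul_mem (mul_mem (hb _ _ (hxQ 0)) (hb _ _ (hxQ 1))) (hb _ _ (hxQ 2)))
      (mul_mem (mul_mem (hb _ _ (hwQ 0)) (hb _ _ (hwQ 1))) (hb _ _ (hwQ 2)))) (hb _ _ hzQ)
  have hinj : Function.Injective (fun n : Fin 128 => (⟨theta z x w n, hmem _⟩ : Q)) := fun n m h =>
    fr.theta_inj n m (congrArg Subtype.val h)
  have hbij := (Nat.bijective_iff_injective_and_card _).2 ⟨hinj, by rw [Nat.card_fin, hcard]; rfl⟩
  refine exists_coords (x0 := x) (w0 := w) ⟨fr, inferInstance, fun n => hmem n, fun q hq => ?_, hcent⟩ e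
  obtain ⟨n, hn⟩ := hbij.2 ⟨q, hq⟩
  exact ⟨n, congrArg Subtype.val hn⟩

section transvection

/-- The group. -/
abbrev S5 : Type := Matrix.SpecialLinearGroup (Fin 5) (ZMod 2)

/-- The transvection. -/
def t5 : S5 := ⟨tv, Matrix.det_transvection_of_ne 0 1 (by decide) 1⟩

theorem exists_par (g : CC t5) : ∃ p : Par, mk p = ((g : S5) : Matrix (Fin 5) (Fin 5) (ZMod 2)) :=
  (mem_iff t5 rfl _).1 g.2

/-- The middle block. -/
noncomputable def blk : CC t5 →* SL3 :=
  MonoidHom.mk' (fun g => ⟨(exists_par g).choose.2.2.2, by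
    refine (show ∀ t : ZMod 2, t = 0 ∨ t = 1 by decide) _ |>.resolve_left fun h0 => ?_
    have := (Matrix.isUnit_iff_isUnit_det _).1 (isUnit_block (p := (exists_par g).choose)
      (by rw [(exists_par g).choose_spec]; exact (g : S5).2))
    rw [h0] at this
    exact not_isUnit_zero this⟩) fun g h => by
    refine Subtype.ext ?_
    have e : (exists_par (g * h)).choose = Cfsg.Agent.Spor.TransvectionFive.pmul (exists_par g).choose (exists_par h).choose :=
      mk_injective (by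
        rw [(exists_par (g * h)).choose_spec, ← mk_mul, (exists_par g).choose_spec, (exists_par h).choose_spec]
        rfl)
    exact congrArg (fun p : Par => p.2.2.2) e

theorem blk_eq (g : CC t5) {p : Par} (hp : mk p = ((g : S5) : Matrix (Fin 5) (Fin 5) (ZMod 2))) :
    (blk g : Matrix (Fin 3) (Fin 3) (ZMod 2)) = p.2.2.2 :=
  congrArg (fun p : Par => p.2.2.2) (mk_injective ((exists_par g).choose_spec.trans hp.symm))

/-- An element from its parameters. -/
def el5 (p : Par) : CC t5 :=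
  if h : IsUnit p.2.2.2.det then ⟨⟨mk p, det_mk ((Matrix.isUnit_iff_isUnit_det _).2 h)⟩,
    (mem_iff t5 rfl _).2 ⟨p, rfl⟩⟩ else 1

theorem el5_val {p : Par} (h : p.2.2.2.det = 1) :
    ((el5 p : S5) : Matrix (Fin 5) (Fin 5) (ZMod 2)) = mk p := by
  rw [el5, dif_pos (by rw [h]; exact isUnit_one)]

theorem blk_el5 {p : Par} (h : p.2.2.2.det = 1) : (blk (el5 p) : Matrix (Fin 3) (Fin 3) (ZMod 2)) = p.2.2.2 :=
  blk_eq _ (el5_val h).symm

theorem blk_surj : Function.Surjective blk := fun B =>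
  ⟨el5 (0, 0, 0, B), Subtype.ext (blk_el5 (p := (0, 0, 0, (B : Matrix (Fin 3) (Fin 3) (ZMod 2)))) B.2)⟩

/-- The three generators of the row part. -/
def x5 (i : Fin 3) : CC t5 := el5 (0, Pi.single i 1, 0, 1)

/-- The three generators of the column part. -/
def w5 (i : Fin 3) : CC t5 := el5 (0, 0, Pi.single i 1, 1)

theorem gens_mul : ∀ i j : Fin 3,
    mk (0, Pi.single i 1, 0, 1) * mk (0, Pi.single i 1, 0, 1) = 1 ∧
    mk (0, 0, Pi.single i 1, 1) * mk (0, 0, Pi.single i 1, 1) = 1 ∧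
    mk (0, Pi.single i 1, 0, 1) * mk (0, Pi.single j 1, 0, 1) = mk (0, Pi.single j 1, 0, 1) * mk (0, Pi.single i 1, 0, 1) ∧
    mk (0, 0, Pi.single i 1, 1) * mk (0, 0, Pi.single j 1, 1) = mk (0, 0, Pi.single j 1, 1) * mk (0, 0, Pi.single i 1, 1) ∧
    mk (0, 0, Pi.single i 1, 1) * mk (0, Pi.single j 1, 0, 1) =
      mk (0, Pi.single j 1, 0, 1) * mk (0, 0, Pi.single i 1, 1) * (if i = j then tv else 1) := by decide +kernel

theorem frame5 : Frame (zc t5) x5 w5 := by
  have hx : ∀ i, ((x5 i : S5) : Matrix (Fin 5) (Fin 5) (ZMod 2)) = mk (0, Pi.single i 1, 0, 1) :=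
    fun i => el5_val Matrix.det_one
  have hw : ∀ i, ((w5 i : S5) : Matrix (Fin 5) (Fin 5) (ZMod 2)) = mk (0, 0, Pi.single i 1, 1) :=
    fun i => el5_val Matrix.det_one
  have ext' : ∀ {a b : CC t5}, ((a : S5) : Matrix (Fin 5) (Fin 5) (ZMod 2)) = ((b : S5) : Matrix _ _ _) → a = b :=
    fun h => Subtype.ext (Subtype.ext h)
  refine ⟨ext' ?_, ?_, zc_comm, fun i => ext' ?_, fun i => ext' ?_, fun i j => ext' ?_, fun i j => ext' ?_,
    fun i j => ext' ?_⟩
  · show tv * tv = 1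
    decide +kernel
  · intro h
    have := congrArg (fun a : CC t5 => ((a : S5) : Matrix (Fin 5) (Fin 5) (ZMod 2)) 0 1) h
    revert this
    decide +kernel
  · show ((x5 i : S5) : Matrix (Fin 5) (Fin 5) (ZMod 2)) * (x5 i : S5) = 1
    rw [hx]; exact (gens_mul i i).1
  · show ((w5 i : S5) : Matrix (Fin 5) (Fin 5) (ZMod 2)) * (w5 i : S5) = 1
    rw [hw]; exact (gens_mul i i).2.1
  · show ((x5 i : S5) : Matrix (Fin 5) (Fin 5) (ZMod 2)) * (x5 j : S5) = (x5 j : S5) * (x5 i : S5)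
    rw [hx, hx]; exact (gens_mul i j).2.2.1
  · show ((w5 i : S5) : Matrix (Fin 5) (Fin 5) (ZMod 2)) * (w5 j : S5) = (w5 j : S5) * (w5 i : S5)
    rw [hw, hw]; exact (gens_mul i j).2.2.2.1
  · by_cases h : i = j
    · rw [decide_eq_true h, cond_true]
      show ((w5 i : S5) : Matrix (Fin 5) (Fin 5) (ZMod 2)) * (x5 j : S5) = (x5 j : S5) * (w5 i : S5) * tv
      rw [hx, hw, (gens_mul i j).2.2.2.2, if_pos h]
    · rw [decide_eq_false h, cond_false, mul_one]
      show ((w5 i : S5) : Matrix (Fin 5) (Fin 5) (ZMod 2)) * (x5 j : S5) = (x5 j : S5) * (w5 i : S5)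
      rw [hx, hw, (gens_mul i j).2.2.2.2, if_neg h, mul_one]

theorem blk_x5 (i : Fin 3) : x5 i ∈ blk.ker ∧ w5 i ∈ blk.ker :=
  ⟨Subtype.ext (blk_el5 Matrix.det_one), Subtype.ext (blk_el5 Matrix.det_one)⟩

theorem blk_z : zc t5 ∈ blk.ker := Subtype.ext (blk_eq (zc t5) (p := (1, 0, 0, 1)) tv_eq.symm)

theorem card5 : Nat.card (CC t5) = 21504 := Cfsg.Agent.Spor.TransvectionFive.card_centralizer t5 rfl

theorem card_ker5 : Nat.card blk.ker = 2 ^ 7 := by
  have h := blk.ker.card_mul_index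
  rw [card5, Subgroup.index_ker, MonoidHom.range_eq_top.2 blk_surj, Subgroup.card_top, card_sl3] at h
  omega

theorem cent5 : Subgroup.centralizer (blk.ker : Set (CC t5)) ≤ blk.ker := by
  intro g hg
  obtain ⟨p, hp⟩ := exists_par g
  refine MonoidHom.mem_ker.2 (Subtype.ext ((blk_eq g hp).trans ?_))
  have key : ∀ i, p.2.1 + Pi.single i 1 ᵥ* p.2.2.2 = (Pi.single i 1 : Fin 3 → ZMod 2) + p.2.1 ᵥ* 1 := by
    intro i
    have h1 := congrArg (fun a : CC t5 => ((a : S5) : Matrix (Fin 5) (Fin 5) (ZMod 2)))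
      (Subgroup.mem_centralizer_iff.1 hg (x5 i) (blk_x5 i).1)
    replace h1 : ((x5 i : S5) : Matrix (Fin 5) (Fin 5) (ZMod 2)) * (g : S5) = (g : S5) * (x5 i : S5) := h1
    rw [show ((x5 i : S5) : Matrix (Fin 5) (Fin 5) (ZMod 2)) = _ from el5_val Matrix.det_one, ← hp, mk_mul,
      mk_mul] at h1
    have h2 := congrArg (fun q : Par => q.2.1) (mk_injective h1)
    exact h2
  ext i j
  have h3 := congrFun (key i) j
  simp [Pi.single_apply] at h3
  show p.2.2.2 i j = (1 : Matrix (Fin 3) (Fin 3) (ZMod 2)) i j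
  rw [Matrix.one_apply]
  by_cases hij : i = j
  · rw [if_pos hij]; rw [if_pos hij.symm] at h3; linear_combination h3
  · rw [if_neg hij]; rw [if_neg (Ne.symm hij)] at h3; linear_combination h3

end transvection

end Cfsg.Agent.Spor.Leech.SevenFix.HeModel
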