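import Cfsg.Agent.Lib.Spor.Leech.OddFix.Prep
import Cfsg.Agent.Lib.Spor.Leech.SevenFix.Cent

/-!
In a group of Monster type the centraliser of an element of order seven fixing two centres is, modulo that
element, a group of Held type.
-/

set_option autoImplicit false
set_option maxRecDepth 100000
set_option linter.style.haveILetI false

noncomputable section

namespace Cfsg.Agent.Spor.Leech.SevenFix

open Cfsg Cfsg.Agent.Spor.Leech.OddFix

theorem conj_two : ∀ j ∈ [1, 2, 4], (M24Seven.conjList (M24Seven.pw j)).any Golay.inM24 = true := by decide +kernel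

/-- Every exponent prime to seven is that of a normalising automorphism. -/
theorem exists_norm (i : ℕ) (hi : ¬ 7 ∣ i) : ∃ g : Co0, g * P0 * g⁻¹ = P0 ^ i := by
  have hmono : ∀ j ∈ [1, 2, 4], ∃ g : Co0, g * P0 * g⁻¹ = P0 ^ j := by
    intro j hj
    obtain ⟨R, hR, hM⟩ := List.any_eq_true.1 (conj_two j hj)
    refine ⟨mono (Golay.permOf_mem_M24 hM) empty_code, mul_inv_eq_iff_eq_mul.2 ?_⟩
    rw [P0, mono_pow, mono_empty_mul, mono_empty_mul]
    exact ext_axis fun k => by simp only [mono_axis, Finset.notMem_empty, if_false, M24Seven.of_conjList hR hM]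
  obtain ⟨x, hx, hx6⟩ : ∃ x ∈ maps, x.2.1 = 6 := by decide +kernel
  have h6 : mapC x * P0 * (mapC x)⁻¹ = P0 ^ 6 := by
    have hPM := (mapC_spec hx).1
    rw [hx6] at hPM
    have h1 : mapC x * P0 ^ 6 * (mapC x)⁻¹ = P0 := mul_inv_eq_iff_eq_mul.2 hPM.symm
    have h2 := congrArg (· ^ 6) h1
    simp only [← conj_pow, ← pow_mul] at h2
    have h7' : (mapC x * P0 * (mapC x)⁻¹) ^ 7 = 1 := by rw [conj_pow, P0_pow, mul_one, mul_inv_cancel]
    rw [show (6 * 6 : ℕ) = 7 * 5 + 1 by norm_num, pow_succ, pow_mul, h7', one_pow, one_mul] at h2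
    exact h2
  have hmul : ∀ {a b : ℕ}, (∃ g : Co0, g * P0 * g⁻¹ = P0 ^ a) → (∃ g : Co0, g * P0 * g⁻¹ = P0 ^ b) →
      ∃ g : Co0, g * P0 * g⁻¹ = P0 ^ (a * b) := by
    rintro a b ⟨g, hg⟩ ⟨h, hh⟩
    refine ⟨g * h, ?_⟩
    calc g * h * P0 * (g * h)⁻¹ = g * (h * P0 * h⁻¹) * g⁻¹ := by group
      _ = _ := by rw [hh, ← conj_pow, hg, pow_mul]
  have hred : P0 ^ i = P0 ^ (i % 7) := by
    conv_lhs => rw [← Nat.mod_add_div i 7]
    rw [pow_add, pow_mul, P0_pow, one_pow, mul_one]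
  rw [hred]
  have h7 : i % 7 = 1 ∨ i % 7 = 2 ∨ i % 7 = 3 ∨ i % 7 = 4 ∨ i % 7 = 5 ∨ i % 7 = 6 := by omega
  rcases h7 with h | h | h | h | h | h <;> rw [h]
  · exact hmono 1 (by simp)
  · exact hmono 2 (by simp)
  · obtain ⟨g, hg⟩ := hmul (hmono 4 (by simp)) ⟨_, h6⟩
    exact ⟨g, by rw [hg, show (4 * 6 : ℕ) = 7 * 3 + 3 by norm_num, pow_add, pow_mul, P0_pow, one_pow, one_mul]⟩
  · exact hmono 4 (by simp)
  · obtain ⟨g, hg⟩ := hmul (hmono 2 (by simp)) ⟨_, h6⟩
    exact ⟨g, by rw [hg, show (2 * 6 : ℕ) = 7 * 1 + 5 by norm_num, pow_add, pow_mul, P0_pow, one_pow, one_mul]⟩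
  · exact ⟨_, h6⟩

theorem frames (v : leechLattice) (hv : Fixed P0 v) (hn : sqNorm (v : Vec) = 64) : Reached P0 7 none v := by
  obtain ⟨x, hx, hco⟩ := frame_mask hv hn
  obtain ⟨hPM, hMa, -, h0, h7⟩ := mapC_spec hx
  have hf : Fixed P0 (mapC x • axis none) := by
    show cls (P0 • mapC x • axis none) = _
    rw [← mul_smul, hPM, mul_smul]
    exact congr_smul ((axis_fixed none).pow _)
  refine ⟨mapC x, ?_, (fix.co_inj hf hv).1 (hMa.trans hco.symm)⟩
  obtain ⟨hr, -⟩ | ⟨hr, -⟩ := maps_shape.1 x hx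
  · exact ⟨1, by decide, by rw [hr, pow_one] at hPM; rw [pow_one, ← hPM, mul_inv_cancel_right]⟩
  · refine ⟨6, by decide, ?_⟩
    rw [hr] at hPM
    have h1 : mapC x * P0 ^ 6 * (mapC x)⁻¹ = P0 := mul_inv_eq_iff_eq_mul.2 hPM.symm
    have h2 := congrArg (· ^ 6) h1
    simp only [← conj_pow, ← pow_mul] at h2
    have h7' : (mapC x * P0 * (mapC x)⁻¹) ^ 7 = 1 := by rw [conj_pow, P0_pow, mul_one, mul_inv_cancel]
    rw [show (6 * 6 : ℕ) = 7 * 5 + 1 by norm_num, pow_succ, pow_mul, h7', one_pow, one_mul] at h2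
    exact h2

/-- The coordinates of the classes of norm 64. -/
def frameSet : Finset (Fin 6 → ZMod 2) := (maps.map fun x => bits x.1).toFinset

theorem frameSet_facts : frameSet.card = 14 ∧ (0 : Fin 6 → ZMod 2) ∉ frameSet := by decide +kernel

variable {G : Type*} [Group G] [Finite G] {z : G} {Q : Subgroup (Subgroup.centralizer ({z} : Set G))} [Q.Normal]
  {e : (Subgroup.centralizer ({z} : Set G)) ⧸ Q ≃* Cfsg.Spor.Co1} {ψ : leechLattice → Q ⧸ Subgroup.center Q}
  {b s : G}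

theorem coord_mem (S : Setup z Q e ψ 7 P0 Bs Gi b s none) (x : S.Q0) :
    (∃ v, Rep ψ v (x : G) ∧ sqNorm (v : Vec) = 64) ↔ (S.coord x).toAdd ∈ frameSet := by
  constructor
  · rintro ⟨v, hv, hn⟩
    obtain ⟨y, hy, hco⟩ := frame_mask ((S.fix_iff hv).1 (S.mem_Q0.1 x.2).2) hn
    rw [S.coord_eq x hv, toAdd_ofAdd, hco, frameSet, List.mem_toFinset]
    exact List.mem_map.2 ⟨y, hy, rfl⟩
  · intro h
    rw [frameSet, List.mem_toFinset, List.mem_map] at h
    obtain ⟨y, hy, he⟩ := h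
    obtain ⟨v, hv, hf⟩ := S.exists_fixed x.2
    obtain ⟨hPM, hMa, -, -, -⟩ := mapC_spec hy
    have hf' : Fixed P0 (mapC y • axis none) := by
      show cls (P0 • mapC y • axis none) = _
      rw [← mul_smul, hPM, mul_smul]
      exact congr_smul ((axis_fixed none).pow _)
    refine ⟨mapC y • axis none, S.mt.rep_congr hv ((fix.co_inj hf hf').1 ?_), by rw [co_norm, axis_norm]⟩
    rw [hMa, he, S.coord_eq x hv, toAdd_ofAdd]

theorem count (S : Setup z Q e ψ 7 P0 Bs Gi b s none) :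
    {x : S.Q0 | (x : G) = z ∨ (S.coord x).toAdd ∈ frameSet}.ncard = 29 := by
  classical
  let r : (Fin 6 → ZMod 2) → S.Q0 := fun a => (S.coord_surjective (Multiplicative.ofAdd a)).choose
  have hr : ∀ a, (S.coord (r a)).toAdd = a := fun a => by
    rw [(S.coord_surjective (Multiplicative.ofAdd a)).choose_spec, toAdd_ofAdd]
  let zq : S.Q0 := ⟨z, S.z_mem0⟩
  have hz : S.coord zq = 1 := (S.coord_one zq).2 (Or.inr rfl)
  have hr1 : Function.Injective r := fun a c h => by rw [← hr a, h, hr]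
  have hr2 : Function.Injective fun a => r a * zq := fun a c h => hr1 (mul_right_cancel h)
  have hset : {x : S.Q0 | (x : G) = z ∨ (S.coord x).toAdd ∈ frameSet} =
      insert zq (r '' ↑frameSet ∪ (fun a => r a * zq) '' ↑frameSet) := by
    ext x
    simp only [Set.mem_setOf_eq, Set.mem_insert_iff, Set.mem_union, Set.mem_image, Finset.mem_coe]
    constructor
    · rintro (h | h)
      · exact Or.inl (Subtype.ext h)
      · right
        have hk : S.coord ((r (S.coord x).toAdd)⁻¹ * x) = 1 := by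
          rw [map_mul, map_inv, inv_mul_eq_one]
          exact Multiplicative.toAdd.injective (hr _)
        rcases (S.coord_one _).1 hk with h1 | h1
        · exact Or.inl ⟨_, h, inv_mul_eq_one.1 (Subtype.ext h1)⟩
        · exact Or.inr ⟨_, h, Eq.symm (inv_mul_eq_iff_eq_mul.1 (Subtype.ext h1))⟩
    · rintro (rfl | ⟨a, ha, rfl⟩ | ⟨a, ha, rfl⟩)
      · exact Or.inl rfl
      · exact Or.inr (by rw [hr]; exact ha)
      · exact Or.inr (by rw [map_mul, hz, mul_one, hr]; exact ha)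
  have hdisj : Disjoint (r '' ↑frameSet) ((fun a => r a * zq) '' ↑frameSet) := by
    rw [Set.disjoint_left]
    rintro x ⟨a, -, rfl⟩ ⟨c, -, h⟩
    have h1 := congrArg (fun y => (S.coord y).toAdd) h
    simp only [map_mul, hz, mul_one, hr] at h1
    rw [h1, mul_eq_left] at h
    exact S.mt.z_ne (congrArg Subtype.val h)
  have hzn : zq ∉ r '' ↑frameSet ∪ (fun a => r a * zq) '' ↑frameSet := by
    rintro (⟨a, ha, h⟩ | ⟨a, ha, h⟩) <;>
    · have h1 := congrArg (fun y => (S.coord y).toAdd) h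
      simp only [map_mul, hz, mul_one, hr, toAdd_one] at h1
      exact frameSet_facts.2 (h1 ▸ Finset.mem_coe.1 ha)
  rw [hset, Set.ncard_insert_of_notMem hzn (Set.toFinite _), Set.ncard_union_eq hdisj (Set.toFinite _) (Set.toFinite _),
    Set.ncard_image_of_injective _ hr1, Set.ncard_image_of_injective _ hr2, Set.ncard_coe_finset, frameSet_facts.1]

theorem held (S : Setup z Q e ψ 7 P0 Bs Gi b s none) [(NT b).Normal]
    (hswap : ∃ h : G, h * z * h⁻¹ = s ∧ h * b * h⁻¹ ∈ Subgroup.zpowers b) :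
    Cfsg.IsOfHeldType (CB b ⧸ NT b) := by
  haveI := S.R_normal
  refine ⟨S.zb, S.R, inferInstance, S.setting quot hswap exists_norm (by norm_num) (by norm_num), ⟨S.iso quot⟩, ?_⟩
  rw [← count S, ← Set.ncard_image_of_injective {x : S.Q0 | (x : G) = z ∨ (S.coord x).toAdd ∈ frameSet}
    (f := fun x => (S.eR x : S.Dz)) (Subtype.val_injective.comp S.eR.injective)]
  congr 1
  ext d
  simp only [Set.mem_setOf_eq, Set.mem_image]
  constructor
  · rintro ⟨hd, hc⟩
    obtain ⟨x, hx⟩ := S.eR.surjective ⟨d, hd⟩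
    obtain rfl : (S.eR x : S.Dz) = d := congrArg Subtype.val hx
    rw [S.isConj_iff_reached hswap exists_norm frames, coord_mem] at hc
    exact ⟨x, hc, rfl⟩
  · rintro ⟨x, hx, rfl⟩
    refine ⟨(S.eR x).2, ?_⟩
    rw [S.isConj_iff_reached hswap exists_norm frames, coord_mem]
    exact hx

theorem seven_conj (σ : Equiv.Perm GolayPt) (hσ : σ ∈ M24) (ho : orderOf σ = 7) :
    ∃ π ∈ M24, ∃ j : ℕ, π * σ * π⁻¹ = M24Seven.gen ^ j := by
  haveI : Fact (Nat.Prime 7) := ⟨by norm_num⟩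
  let S' : Subgroup ↥M24 := Subgroup.zpowers ⟨σ, hσ⟩
  have hS : Nat.card S' = 7 := by rw [Nat.card_zpowers, ← Subgroup.orderOf_coe]; exact ho
  have hfac : (Nat.card ↥M24).factorization 7 = 1 := by
    rw [Golay.card_M24, Nat.factorization_def _ (by norm_num : Nat.Prime 7)]
    rw [show (244823040 : ℕ) = 7 * 34974720 by norm_num, padicValNat.mul (by norm_num) (by norm_num), padicValNat_self,
      padicValNat.eq_zero_of_not_dvd (by norm_num)]
  obtain ⟨k, hk⟩ := MulAction.exists_smul_eq ↥M24 (Sylow.ofCard S' (by rw [hS, hfac, pow_one]))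
    (Sylow.ofCard M24Seven.sub (by rw [M24Seven.card_sub, hfac, pow_one]))
  have hm : k * ⟨σ, hσ⟩ * k⁻¹ ∈ M24Seven.sub := by
    have h1 : k * ⟨σ, hσ⟩ * k⁻¹ ∈ ((k • Sylow.ofCard S' (by rw [hS, hfac, pow_one]) : Sylow 7 ↥M24) : Subgroup ↥M24) :=
      ⟨⟨σ, hσ⟩, Subgroup.mem_zpowers _, rfl⟩
    rw [hk] at h1
    exact h1
  obtain ⟨j, -, hj⟩ := M24Seven.mem_sub.1 hm
  exact ⟨k, k.2, j, by rw [← hj]; rfl⟩

/-- The reduction for a Sylow subgroup of order seven of the joint centraliser. -/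
theorem exists_setup (hM : IsOfMonsterType z Q) (hsQ : s ∈ QG Q) (hs : IsConj z s) (hs1 : s ≠ z) (B : Subgroup G)
    (hB : B ≤ Subgroup.centralizer ({z, s} : Set G))
    (hBp : Nat.card B = 7 ^ (Nat.card ↥(Subgroup.centralizer ({z, s} : Set G))).factorization 7) :
    ∃ (e : (Subgroup.centralizer ({z} : Set G)) ⧸ Q ≃* Cfsg.Spor.Co1) (ψ : leechLattice → Q ⧸ Subgroup.center Q)
      (b : G), B = Subgroup.zpowers b ∧ Setup z Q e ψ 7 P0 Bs Gi b s none ∧
        ∃ h : G, h * z * h⁻¹ = s ∧ h * b * h⁻¹ ∈ Subgroup.zpowers b := by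
  haveI : Fact (Nat.Prime 7) := ⟨by norm_num⟩
  obtain ⟨e, ψ, hψ⟩ := hM.2
  have h := MT.of_type hM hψ
  have hcard : Nat.card B = 7 := by
    obtain ⟨k, hk⟩ := card_joint h hsQ hs hs1
    rw [hBp, hk, Nat.factorization_mul (by positivity) (by norm_num), Finsupp.add_apply,
      Nat.factorization_eq_zero_of_not_dvd (fun hd => by
        have := (Nat.prime_dvd_prime_iff_eq (by norm_num : Nat.Prime 7) Nat.prime_two).1
          ((by norm_num : Nat.Prime 7).dvd_of_dvd_pow hd)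
        omega), zero_add, Nat.factorization_def _ (by norm_num : Nat.Prime 7),
      show (244823040 : ℕ) = 7 * 34974720 by norm_num, padicValNat.mul (by norm_num) (by norm_num), padicValNat_self,
      padicValNat.eq_zero_of_not_dvd (by norm_num)]
    norm_num
  obtain ⟨b, hb⟩ := exists_prime_orderOf_dvd_card' (G := B) 7 (by rw [hcard])
  obtain ⟨k, hkz, hk⟩ := exists_swap h hsQ hs hs1 B hB hBp
  have hbB : Subgroup.zpowers (b : G) = B := by
    refine Subgroup.eq_of_le_of_card_ge (Subgroup.zpowers_le.2 b.2) ?_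
    rw [Nat.card_zpowers, Subgroup.orderOf_coe, hb, hcard]
  have hbL := Subgroup.mem_centralizer_iff.1 (hB b.2)
  have hbz : (b : G) * z = z * b := (hbL z (by simp)).symm
  have hbs : (b : G) * s = s * b := (hbL s (by simp)).symm
  have hob : orderOf (b : G) = 7 := by rw [Subgroup.orderOf_coe, hb]
  obtain ⟨e₁, ψ₁, σ, hσ, hσo, h₁, hr₁, hi₁⟩ := exists_frame h hsQ hs hs1 (by norm_num : Nat.Prime 7) rfl hob hbz hbs
  obtain ⟨π, hπ, j, hconj⟩ := seven_conj σ hσ hσo
  obtain ⟨e₂, ψ₂, b', hb'z, hgen, hob', h₂, hr₂, hi₂⟩ :=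
    conj_frame h₁ hr₁ (by norm_num : Nat.Prime 7) hob hbz hσ hi₁ M24Seven.gen_mem hπ hσo M24Seven.order_gen hconj
  obtain rfl : B = Subgroup.zpowers b' := (hgen.trans hbB).symm
  have hbL' := Subgroup.mem_centralizer_iff.1 (hB (Subgroup.mem_zpowers b'))
  exact ⟨e₂, ψ₂, b', rfl, ⟨h₂, by norm_num, fix, hob', hb'z, hi₂, P0_pow, (hbL' s (by simp)).symm, hsQ, hr₂, hs⟩,
    ⟨k, hkz, hk b' (Subgroup.mem_zpowers b')⟩⟩

/-- The section at an element of order seven. -/
theorem held_type (hM : IsOfMonsterType z Q) (hsQ : s ∈ QG Q) (hs : IsConj z s) (hs1 : s ≠ z) (B : Subgroup G)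
    (hB : B ≤ Subgroup.centralizer ({z, s} : Set G))
    (hBp : Nat.card B = 7 ^ (Nat.card ↥(Subgroup.centralizer ({z, s} : Set G))).factorization 7)
    [(B.subgroupOf (Subgroup.centralizer (B : Set G))).Normal] :
    Cfsg.IsOfHeldType (↥(Subgroup.centralizer (B : Set G)) ⧸ B.subgroupOf (Subgroup.centralizer (B : Set G))) := by
  obtain ⟨e, ψ, b, rfl, S, hswap⟩ := exists_setup hM hsQ hs hs1 B hB hBp
  exact held S hswap

end Cfsg.Agent.Spor.Leech.SevenFix

end
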