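import Cfsg.Agent.Lib.Spor.Leech.SevenFix.Held
import Cfsg.Agent.Lib.Spor.Leech.BabySection

/-!
# The two extraspecial groups of a pair of centres share an involution of norm 32
-/

set_option autoImplicit false
set_option maxRecDepth 100000
set_option linter.style.haveILetI false

noncomputable section

namespace Cfsg.Agent.Spor.Leech.SevenFix

open Cfsg Cfsg.Agent.Spor.Leech.OddFix
open scoped Pointwise

theorem octad_through : ∀ i : GolayPt, ∃ m ∈ Golay.octList,
    m.testBit (Golay.idx none) = true ∧ m.testBit (Golay.idx i) = true := by decide +kernel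

/-- The member with two entries 4. -/
def pairV (i j : GolayPt) : leechLattice := ⟨_, pair_mem i j (Or.inl rfl) (Or.inl rfl)⟩

theorem pairV_apply (i j p : GolayPt) :
    (pairV i j : Vec) p = (if p = i then 4 else 0) + (if p = j then 4 else 0) := by
  show (Pi.single i (4 : ℤ) + Pi.single j 4 : Vec) p = _
  simp only [Pi.add_apply, Pi.single_apply]

theorem pairV_norm {i j : GolayPt} (hij : i ≠ j) : sqNorm (pairV i j : Vec) = 32 := by
  show sqNorm (Pi.single i 4 + Pi.single j 4) = 32
  rw [sqNorm, Finset.sum_eq_add i j hij (fun k _ hk => by simp [Pi.single_eq_of_ne hk.1, Pi.single_eq_of_ne hk.2])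
    (by simp) (by simp)]
  simp [Pi.single_eq_of_ne hij, Pi.single_eq_of_ne hij.symm]

theorem dot_axis (k : GolayPt) (w : leechLattice) :
    dotInt ((axis k : leechLattice) : Vec) (w : Vec) = 8 * (w : Vec) k := by
  rw [dotInt, axis_val, Finset.sum_eq_single k (fun p _ hp => by simp [Pi.single_eq_of_ne hp]) (by simp),
    Pi.single_eq_same]

theorem cls_add_axis (w : leechLattice) (i j : GolayPt) : cls (w + axis i) = cls (w - axis j) := by
  have h : cls (axis i) = cls (axis j) := cls_axes i j
  have h2 : cls (w - axis j) = cls (w + axis j) := cls_iff_double.2 ⟨-axis j, by abel⟩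
  rw [h2, cls_add, cls_add, h]

theorem short_eq {u w : leechLattice} (hu : sqNorm (u : Vec) = 32) (hw : sqNorm (w : Vec) = 32) (h : cls u = cls w) :
    (u : Vec) = (w : Vec) ∨ (u : Vec) = -(w : Vec) := by
  rcases congr_short u.2 w.2 (by omega) (by omega) (cls_eq.1 h) with e | e | ⟨e, -⟩
  exacts [Or.inl e, Or.inr e, absurd e (by omega)]

/-- An element fixing the class of the axis moves every class perpendicular to it by at most the axis only if it is
central. -/
theorem central_of_axis {k : Co0} (h0 : cls (k • axis none) = cls (axis none))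
    (hk : ∀ w : leechLattice, (16 : ℤ) ∣ dotInt ((axis none : leechLattice) : Vec) (w : Vec) →
      cls (k • w) = cls w ∨ cls (k • w) = cls (w + axis none)) : k ∈ Subgroup.center Co0 := by
  classical
  obtain ⟨σ, hσ, c, hc, rfl⟩ := exists_mono (show k ∈ crossStab by rw [← stabC_eq_crossStab none]; exact h0)
  have hnz : ∀ {i j : GolayPt}, i ≠ j → σ i = i ∨ σ i = j := by
    intro i j hij
    have hd : (16 : ℤ) ∣ dotInt ((axis none : leechLattice) : Vec) (pairV i j : Vec) := by
      rw [dot_axis, pairV_apply]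
      split_ifs <;> norm_num
    have hv : (((mono hσ hc • pairV i j : leechLattice)) : Vec) (σ i) ≠ 0 := by
      rw [mono_apply, signedPerm, Equiv.symm_apply_apply, pairV_apply]
      simp only [if_pos, hij]
      split_ifs <;> norm_num
    have hn : sqNorm (((mono hσ hc • pairV i j : leechLattice)) : Vec) = 32 := by rw [co_norm, pairV_norm hij]
    by_contra hne
    rw [not_or] at hne
    obtain ⟨h1, h2⟩ := hne
    apply hv
    have hp : (pairV i j : Vec) (σ i) = 0 := by rw [pairV_apply]; simp [h1, h2]
    have ha : ((pairV i j - axis i : leechLattice) : Vec) (σ i) = 0 := by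
      rw [AddSubgroup.coe_sub, Pi.sub_apply, hp, axis_val, Pi.single_eq_of_ne h1, sub_zero]
    rcases hk _ hd with e | e
    · rcases short_eq hn (pairV_norm hij) e with e' | e' <;> rw [e'] <;> simp [hp]
    · rw [cls_add_axis _ none i] at e
      have hn' : sqNorm ((pairV i j - axis i : leechLattice) : Vec) = 32 := by
        rw [AddSubgroup.coe_sub, norm_sub, pairV_norm hij, axis_norm, dotInt_comm, dot_axis, pairV_apply]
        simp [hij]
      rcases short_eq hn hn' e with e' | e' <;> rw [e'] <;> simp only [Pi.neg_apply, ha, neg_zero]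
  obtain rfl : σ = 1 := by
    refine Equiv.ext fun i => ?_
    obtain ⟨a, b, hab, hia, hib⟩ : ∃ a b : GolayPt, a ≠ b ∧ i ≠ a ∧ i ≠ b := by revert i; decide +kernel
    rcases hnz hia with h | h
    · exact h
    · rcases hnz hib with h' | h'
      · exact h'
      · exact absurd (h.symm.trans h') hab
  refine mem_center_iff.2 (eq_one_or_neg hc ?_ rfl)
  have hconst : ∀ i : GolayPt, i ∈ c ↔ none ∈ c := by
    intro i
    obtain ⟨m, hm, hm0, hmi⟩ := octad_through i
    let O : leechLattice := ⟨twos m, mem_lattice.2 (twos_good hm)⟩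
    have hO0 : (O : Vec) none = 2 := by show twos m none = 2; rw [twos, if_pos hm0]
    have hOi : (O : Vec) i = 2 := by show twos m i = 2; rw [twos, if_pos hmi]
    have hn : sqNorm (O : Vec) = 32 := by
      have e : ∀ p, (O : Vec) p ^ 2 = if m.testBit (Golay.idx p) then 4 else 0 := fun p => by
        show twos m p ^ 2 = _
        unfold twos; cases m.testBit (Golay.idx p) <;> rfl
      rw [sqNorm, Finset.sum_congr rfl fun p _ => e p, ← Finset.sum_filter, Finset.sum_const,
        show (Finset.univ.filter fun p => m.testBit (Golay.idx p) = true).card = 8 from ?_]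
      · norm_num
      · rw [show (Finset.univ.filter fun p => m.testBit (Golay.idx p) = true) = Golay.pts m from rfl, Golay.card_pts]
        exact (Golay.mem_weightList.1 hm).2
    have hn' : sqNorm (((mono hσ hc • O : leechLattice)) : Vec) = 32 := by rw [co_norm, hn]
    have hval : ∀ p, ((mono hσ hc • O : leechLattice) : Vec) p = if p ∈ c then -(O : Vec) p else (O : Vec) p :=
      fun p => by rw [mono_apply, signedPerm]; rfl
    rcases hk O (by rw [dot_axis, hO0]; norm_num) with e | e
    · rcases short_eq hn' hn e with e' | e' <;>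
      · have a0 := congrFun e' none
        have ai := congrFun e' i
        rw [hval] at a0 ai
        simp only [Pi.neg_apply, hO0, hOi] at a0 ai
        by_cases x0 : none ∈ c <;> by_cases xi : i ∈ c <;> simp_all
    · rw [cls_add_axis _ none none] at e
      have h64 : sqNorm ((O - axis none : leechLattice) : Vec) = 64 := by
        rw [AddSubgroup.coe_sub, norm_sub, hn, axis_norm, dotInt_comm, dot_axis, hO0]; norm_num
      rcases congr_short (mono hσ hc • O).2 (O - axis none).2 (by omega) (by omega) (cls_eq.1 e) with e' | e' | ⟨e', -⟩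
      · rw [e'] at hn'; omega
      · rw [e', norm_neg] at hn'; omega
      · omega
  by_cases h : none ∈ c
  · exact Or.inr (Finset.eq_univ_iff_forall.2 fun i => (hconst i).2 h)
  · exact Or.inl (Finset.eq_empty_iff_forall_notMem.2 fun i hi => h ((hconst i).1 hi))

variable {G : Type*} [Group G] [Finite G] {z : G} {Q : Subgroup (Subgroup.centralizer ({z} : Set G))} [hQn : Q.Normal]
  {e : (Subgroup.centralizer ({z} : Set G)) ⧸ Q ≃* Cfsg.Spor.Co1} {ψ : leechLattice → Q ⧸ Subgroup.center Q}

/-- A member whose class every sign change moves by at most the axis lies in the second group as well. -/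
theorem mem_inter (h : MT z Q e ψ) {g s y : G} {v : leechLattice} (hg : g * z * g⁻¹ = s) (hs : s ∈ QG Q)
    (hs1 : s ≠ z) (hr : Rep ψ (axis none) s) (hy : Rep ψ v y) (hys : y * s = s * y)
    (hv : ∀ k ∈ signs, cls (k • v) = cls v ∨ cls (k • v) = cls (v + axis none)) : y ∈ PG Q g := by
  subst hg
  have h1 : g * z * g⁻¹ ≠ 1 := fun e' => h.z_ne (conj_eq_one_iff.1 e')
  obtain ⟨v', t, hr', -, -, hE, htS, htX⟩ := h.pair hs hs1
  -- the image of the second group consists of sign changes
  have hX : lift e (imageX Q (g * z * g⁻¹)) = crossStab := by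
    rw [h.lift_imageX hr h1 hs1, stabC_eq_crossStab]
  haveI : Finite signs := Nat.finite_of_card_ne_zero (by rw [card_signs]; norm_num)
  have hle : lift e (imageE Q g) ≤ crossStab := fun k hk => hX ▸ mem_lift.2 (h.imageE_le (mem_lift.1 hk))
  have hp : IsPGroup 2 (lift e (imageE Q g)) := IsPGroup.of_card (n := 12) (by rw [card_lift, hE]; norm_num)
  have hnorm : ∀ a ∈ crossStab, ∀ b ∈ lift e (imageE Q g), a * b * a⁻¹ ∈ lift e (imageE Q g) := by
    intro a ha b hb
    rw [← hX, mem_lift] at ha
    rw [mem_lift] at hb ⊢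
    simpa using h.imageE_norm _ ha _ hb
  have hsigns : lift e (imageE Q g) ≤ signs := two_group_crossStab hp hle hnorm
  -- the conjugate of the member
  set y' := g⁻¹ * y * g with hy'
  have hy'z : y' * z = z * y' := by
    calc y' * z = g⁻¹ * (y * (g * z * g⁻¹)) * g := by rw [hy']; group
      _ = g⁻¹ * ((g * z * g⁻¹) * y) * g := by rw [hys]
      _ = z * y' := by rw [hy']; group
  let d : Subgroup.centralizer ({z} : Set G) := ⟨y', Subgroup.mem_centralizer_singleton_iff.2 hy'z⟩
  set s' := g⁻¹ * z * g with hs'def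
  obtain ⟨q0, hq0, hq0e⟩ := h.z_mem_PG hs
  have hs' : s' ∈ QG Q := by
    have e' : s' = q0 := by
      calc s' = g⁻¹ * (g * q0 * g⁻¹) * g := by
            rw [hs'def, show g * q0 * g⁻¹ = z from hq0e]
        _ = q0 := by group
    rw [e']; exact hq0
  have hg' : g⁻¹ * z * g⁻¹⁻¹ = s' := by rw [inv_inv]
  have hs'1 : s' ≠ z := fun e' => hs1 (by
    calc g * z * g⁻¹ = g * s' * g⁻¹ := by rw [e']
      _ = z := by rw [hs'def]; group)
  obtain ⟨u, hu, hru⟩ := (h.conj_iff hs hs1 hs').1 ⟨isConj_iff.2 ⟨g⁻¹, hg'⟩, hs'1⟩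
  obtain ⟨t', ht'⟩ := exists_to_axis u hu
  have hys' : y' * s' = s' * y' := by
    have hyz := h.ext.central y (MT.rep_mem hy)
    calc y' * s' = g⁻¹ * (y * z) * g := by rw [hy', hs'def]; group
      _ = g⁻¹ * (z * y) * g := by rw [hyz]
      _ = s' * y' := by rw [hy', hs'def]; group
  obtain ⟨k, hk⟩ := h.exists_auto d
  have hk0 : cls (k • u) = cls u := by
    have h3 := h.rep_conj hk hru
    rw [show (d : G) = y' from rfl, hys', mul_inv_cancel_right] at h3
    exact h.rep_cls h3 hru
  have hmove : ∀ w : leechLattice, (16 : ℤ) ∣ dotInt (u : Vec) (w : Vec) →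
      cls (k • w) = cls w ∨ cls (k • w) = cls (w + u) := by
    intro w hw
    obtain ⟨x, hx⟩ := h.exists_rep w
    have hxs : s' * x = x * s' := (Baby.comm_iff h hru hx).2 hw
    set m := g * x * g⁻¹ with hm
    have hmP : m ∈ PG Q g := ⟨x, MT.rep_mem hx, rfl⟩
    have hmz : m * z = z * m := by
      calc m * z = g * (x * s') * g⁻¹ := by rw [hm, hs'def]; group
        _ = g * (s' * x) * g⁻¹ := by rw [hxs]
        _ = z * m := by rw [hm, hs'def]; group
    let mc : Subgroup.centralizer ({z} : Set G) := ⟨m, Subgroup.mem_centralizer_singleton_iff.2 hmz⟩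
    obtain ⟨km, hkm⟩ := h.exists_auto mc
    have hkmE : km ∈ signs := hsigns (mem_lift.2 (mem_imageE.2
      ⟨mc, hmP, by rw [hkm, MulEquiv.symm_apply_apply]⟩))
    -- the conjugate of y under m
    have hmy : ∃ n : G, (n = 1 ∨ n = z ∨ n = g * z * g⁻¹ ∨ n = g * z * g⁻¹ * z) ∧ m * y * m⁻¹ = y * n := by
      have h3 := h.rep_conj hkm hy
      rcases hv km hkmE with e' | e'
      · rcases h.rep_unique hy (h.rep_congr h3 e') with e'' | e''
        · exact ⟨1, Or.inl rfl, by rw [mul_one]; exact e''⟩
        · exact ⟨z, Or.inr (Or.inl rfl), e''⟩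
      · rcases h.rep_unique (h.rep_add hy hr) (h.rep_congr h3 e') with e'' | e''
        · exact ⟨_, Or.inr (Or.inr (Or.inl rfl)), e''⟩
        · exact ⟨_, Or.inr (Or.inr (Or.inr rfl)), e''.trans (mul_assoc _ _ _)⟩
    obtain ⟨n, hn, hmyn⟩ := hmy
    -- so x moves the conjugate of y by at most the two centres
    set n' := g⁻¹ * n * g with hn'
    have hxy : y' * x * y'⁻¹ = (y' * n' * y'⁻¹)⁻¹ * x := by
      have h4 : x * y' * x⁻¹ = y' * n' := by
        calc x * y' * x⁻¹ = g⁻¹ * (m * y * m⁻¹) * g := by rw [hm, hy']; group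
          _ = y' * n' := by rw [hmyn, hy', hn']; group
      have h5 : x * y' = y' * n' * x := by
        calc x * y' = x * y' * x⁻¹ * x := by group
          _ = y' * n' * x := by rw [h4]
      calc y' * x * y'⁻¹ = (y' * n' * y'⁻¹)⁻¹ * (y' * n' * x * y'⁻¹) := by group
        _ = (y' * n' * y'⁻¹)⁻¹ * x := by rw [← h5, mul_inv_cancel_right]
    have hz' : g⁻¹ * (g * z * g⁻¹) * g = z := by group
    have hcs : y' * s' * y'⁻¹ = s' := by rw [hys', mul_inv_cancel_right]
    have hcz : y' * z * y'⁻¹ = z := by rw [hy'z, mul_inv_cancel_right]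
    have hs2 : s' * s' = 1 := by rw [hs'def]; calc g⁻¹ * z * g * (g⁻¹ * z * g) = g⁻¹ * (z * z) * g := by group
                                                    _ = 1 := by rw [h.z_sq]; group
    have hzinv : z⁻¹ = z := inv_eq_of_mul_eq_one_right h.z_sq
    have hsinv : s'⁻¹ = s' := inv_eq_of_mul_eq_one_right hs2
    have hres : y' * x * y'⁻¹ = x ∨ y' * x * y'⁻¹ = z * x ∨ y' * x * y'⁻¹ = s' * x ∨ y' * x * y'⁻¹ = z * (s' * x) := by
      rw [hxy]
      rcases hn with rfl | rfl | rfl | rfl
      · left; rw [hn']; group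
      · right; right; left; rw [show n' = s' from hn', hcs, hsinv]
      · right; left; rw [show n' = z from hn'.trans hz', hcz, hzinv]
      · right; right; right
        rw [show n' = z * s' by rw [hn', hs'def]; group]
        rw [show y' * (z * s') * y'⁻¹ = (y' * z * y'⁻¹) * (y' * s' * y'⁻¹) by group, hcs, hcz, mul_inv_rev, hzinv,
          hsinv, h.ext.central s' hs', mul_assoc]
    have h6 := h.rep_conj hk hx
    rw [show (d : G) = y' from rfl] at h6
    have hzx : z * x = x * z := (h.ext.central x (MT.rep_mem hx)).symm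
    rcases hres with e' | e' | e' | e' <;> rw [e'] at h6
    · exact Or.inl (h.rep_cls h6 hx)
    · exact Or.inl (h.rep_cls h6 (hzx ▸ h.rep_mul_z hx))
    · exact Or.inr (h.rep_cls h6 (hxs ▸ h.rep_add hx hru))
    · refine Or.inr (h.rep_cls h6 ?_)
      rw [← mul_assoc, (h.ext.central s' hs').symm, mul_assoc, hzx, ← mul_assoc, hxs]
      exact h.rep_mul_z (h.rep_add hx hru)
  -- so the conjugate induces a central automorphism
  have hax : cls (axis (Golay.base5 0)) = cls (axis none) := cls_axes _ _
  have hkc : t' * k * t'⁻¹ ∈ Subgroup.center Co0 := by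
    refine central_of_axis ?_ fun w hw => ?_
    · rw [← congr_smul (g := t' * k * t'⁻¹) hax, ← hax, mul_smul, mul_smul, ← ht', inv_smul_smul]
      exact congr_smul hk0
    · have hw' : (16 : ℤ) ∣ dotInt (u : Vec) ((t'⁻¹ • w : leechLattice) : Vec) := by
        have h7 := dot_move t' u (t'⁻¹ • w) ht'
        rw [smul_inv_smul, dot_axis] at h7
        rw [← h7]
        rw [dot_axis] at hw
        have h8 : (16 : ℤ) ∣ dotInt ((axis (Golay.base5 0) - axis none : leechLattice) : Vec) (w : Vec) := by
          obtain ⟨r, hr'⟩ := cls_iff_double.1 hax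
          rw [hr']
          obtain ⟨q, hq⟩ := dot_dvd r.2 w.2
          refine ⟨q, ?_⟩
          have : dotInt ((r + r : leechLattice) : Vec) (w : Vec) = dotInt (r : Vec) (w : Vec) + dotInt (r : Vec) (w : Vec) := by
            simp only [dotInt, AddSubgroup.coe_add, Pi.add_apply, add_mul, Finset.sum_add_distrib]
          omega
        have h9 : dotInt ((axis (Golay.base5 0) - axis none : leechLattice) : Vec) (w : Vec) =
            8 * (w : Vec) (Golay.base5 0) - 8 * (w : Vec) none := by
          rw [← dot_axis, ← dot_axis]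
          simp only [dotInt, AddSubgroup.coe_sub, Pi.sub_apply, sub_mul, Finset.sum_sub_distrib]
        omega
      rcases hmove _ hw' with e' | e'
      · left
        have := congr_smul (g := t') e'
        rwa [smul_inv_smul, ← mul_smul, ← mul_smul] at this
      · right
        have := congr_smul (g := t') e'
        rw [co_add, smul_inv_smul, ← mul_smul, ← mul_smul, ht'] at this
        rw [this, cls_add, cls_add, hax]
  have hkc' : k ∈ Subgroup.center Co0 := by
    have := (inferInstance : (Subgroup.center Co0).Normal).conj_mem _ hkc t'⁻¹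
    rwa [show t'⁻¹ * (t' * k * t'⁻¹) * t'⁻¹⁻¹ = k by group] at this
  have hd : d ∈ Q := by
    have h1' : (QuotientGroup.mk k : Cfsg.Spor.Co1) = 1 := (QuotientGroup.eq_one_iff k).2 hkc'
    rw [h1', eq_comm, MulEquiv.map_eq_one_iff, QuotientGroup.eq_one_iff] at hk
    exact hk
  exact ⟨y', ⟨d, hd, rfl⟩, show g * y' * g⁻¹ = y by rw [hy']; group⟩

end Cfsg.Agent.Spor.Leech.SevenFix

end
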