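import Mathlib.Data.Nat.Notation

/-!
An involution inverting the permutation of order seven, and a cross consisting of its eigenvectors.
-/

set_option autoImplicit false
set_option maxRecDepth 100000

namespace Cfsg.Agent.Spor.Leech.SevenFix

/-- The rows of the involution. -/
def invT : List ℕ := [686055612711955516355647606748690894, 686055612711950789377619452007762382, 686050700565874904984185056816347726, 686050547061310033596890231966616018, 686050700565879631962213203235523150, 686055617663715668880974686087363150, 686055771168280540268269510928714194, 686055776120040702025984631059860050, 686050542109549881071554347953375826, 686055617663710951126318576514320974, 686055776120035975047675001065388626, 600299131230691586018805483942986256, 686050547061314760575199853102447058, 600299131230691291159130680741872144, 686055771168275822513331926655777234, 610683724947760946127961297248600592, 600299131240362697427817337987809808, 932606130176920259096852069660246544, 686050705517635066741891372256147918, 686050705517639784496547490150435278, 686050542109554598826491941084412498, 600623649784349717597683460610736656, 600299131230993522325803961883836944, 600299131540176300692245373314941456]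

/-- The cross. -/
def invF : List ℕ := [686050628765352628740148944513284558, 686050618861832314457107020198197710, 691247991274377096417317039196617166, 680863397557609672615159703831853518, 686055694415998254312558638460848590, 686055694415997959452883835259734478, 686050782269922222489282443760650702, 686050465357272165440939268839590350, 686055694415998106882716838952057422, 852204123131969173167418602515085902, 519897124495225214762811906169780814, 686055694415998106882716838683884110, 686055694415993389127779254402566734, 686055694415993379904688692524501582, 686212883085585981683565441717914190, 685888364541598961513699319094987342, 766614966892495629926314213011571216, 605491504841659815334865804133351952, 605653605666999560337296090290668048, 766452549154505837081179865255199248, 600299054478408852869158151725203984, 771807110246616849608706766060077584, 771645009421276818393794436229710352, 600461472216398950374081566817600016, 771644846013191628107267656697594384, 600461308808313760087554787285484048, 600299207982973728872642457455116816, 771807263751181725612191071789990416, 605653769075084741400169358259995152, 766452712562591018144053133224526352, 766614813387930763146483419381842448, 605491351337094948555035010503623184, 686217953687991616967649904420207058, 685893435144004596797783781797280210, 686050623813597198576660530990692818, 686050623813597189353569969112627666, 686050623813592471598632384831310290, 852209193734365363718537317345413586, 519902195097621405313930621000108498, 686050623813592471598632384563136978, 686055852872318413040409954675604050,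 686055535959668355992066779754543698, 686050623813592619028465388255459922, 686050623813592324168790585054345810, 691242920671980905866189519683340882, 680858326955213482064032184318577234, 686055699367758264024242203316996690, 686055689464237949741200279001909842]

end Cfsg.Agent.Spor.Leech.SevenFix
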