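import Cfsg.Agent.Lib.Spor.Leech.SevenFix.Held
import Cfsg.Agent.Lib.Spor.Leech.SevenFix.InvData

/-!
An involution inverting a given element of order seven in the centraliser of a centre.
-/

set_option autoImplicit false
set_option maxRecDepth 100000
set_option linter.style.haveILetI false

noncomputable section

namespace Cfsg.Agent.Spor.Leech.SevenFix

open Cfsg Cfsg.Agent.Spor.Leech.OddFix
open Cfsg.Agent.Spor.CoSuz (decV HasT)

/-- A congruent member with the same norm, stated on packed vectors. -/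
def chkCross (X : ℕ) : Bool :=
  inL (decV X) && decide (sqNorm (decV X) = 64) && decide (∀ q, (decV X q - decV (invF.getD 0 0) q) % 2 = 0) &&
    inL (fun q => (decV X q - decV (invF.getD 0 0) q) / 2) && decide (X = encV (decV X)) &&
    (Nat.beq (CoSuz.colP invT X) X || Nat.beq (CoSuz.colP invT X) (CoSuz.negX X))

theorem inv_checks : CoSuz.chkT invT = true ∧ CoSuz.mulP invT invT = CoSuz.oneP ∧
    CoSuz.mulP invT (permP M24Seven.g7) = CoSuz.mulP (permP (M24Seven.pw 6)) invT ∧
    invF.all chkCross = true ∧ invF.Nodup ∧ invF.length = 48 := by decide +kernel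

/-- The involution of the lattice. -/
def invC : Co0 := CoSuz.ofT invT

theorem invC_facts : invC * invC = 1 ∧ invC * P0 = P0 ^ 6 * invC := by
  obtain ⟨hT, h2, hP, -⟩ := inv_checks
  have hM : HasT invC invT := CoSuz.hasT_ofT hT
  refine ⟨(h2 ▸ hM.mul hM).eq CoSuz.hasT_one, ?_⟩
  have hP0 : HasT P0 (permP M24Seven.g7) := hasT_perm M24Seven.g7_checks.2.1 M24Seven.gen_mem rfl
  have hP6 : HasT (P0 ^ 6) (permP (M24Seven.pw 6)) := by
    rw [P0, mono_pow]
    exact hasT_perm (M24Seven.pw_spec _).1 (pow_mem M24Seven.gen_mem _) (M24Seven.pw_spec _).2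
  exact (hP ▸ hM.mul hP0).eq (hP6.mul hM)

theorem inv_inL : ∀ X ∈ invF, inL (decV X) = true := fun X hX => by
  have h := List.all_eq_true.1 inv_checks.2.2.2.1 X hX
  simp only [chkCross, Bool.and_eq_true] at h
  exact h.1.1.1.1.1

/-- The first member of the cross. -/
def invV : leechLattice := mkV (invF.getD 0 0) (by decide +kernel)

theorem invV_spec : (invV : Vec) = decV (invF.getD 0 0) ∧ sqNorm (decV (invF.getD 0 0)) = 64 :=
  ⟨rfl, by decide +kernel⟩

attribute [irreducible] invV

/-- A member of the cross. -/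
theorem cross_spec {X : ℕ} (hX : X ∈ invF) :
    sqNorm ((mkV X (inv_inL X hX) : leechLattice) : Vec) = 64 ∧ cls (mkV X (inv_inL X hX)) = cls invV ∧
      encV ((mkV X (inv_inL X hX) : leechLattice) : Vec) = X ∧
      (invC • mkV X (inv_inL X hX) = mkV X (inv_inL X hX) ∨ invC • mkV X (inv_inL X hX) = -mkV X (inv_inL X hX)) := by
  obtain ⟨hT, -, -, hall, -⟩ := inv_checks
  have hM : HasT invC invT := CoSuz.hasT_ofT hT
  have h := List.all_eq_true.1 hall X hX
  simp only [chkCross, Bool.and_eq_true, Bool.or_eq_true, decide_eq_true_eq, Nat.beq_eq] at h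
  obtain ⟨⟨⟨⟨⟨hi, hn⟩, he⟩, hd⟩, hX'⟩, hc⟩ := h
  generalize hw : mkV X (inv_inL X hX) = w
  have hwv : (w : Vec) = decV X := by rw [← hw]; rfl
  have hwn : sqNorm (w : Vec) = 64 := by rw [hwv]; exact hn
  refine ⟨hwn, cls_eq.2 ⟨_, mem_of_inL hd, funext fun q => ?_⟩, by rw [hwv]; exact hX'.symm, ?_⟩
  · have := he q
    rw [hwv, invV_spec.1]
    simp only [Pi.sub_apply, Pi.smul_apply, nsmul_eq_mul, Nat.cast_ofNat]
    omega
  have ha := hM.app (v := w) hwn.le
  rw [hwv, ← hX'] at ha
  have hs := small_of_norm ((co_norm invC w).trans_le hwn.le)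
  have hb := small_of_norm hwn.le
  rw [hwv] at hb
  rcases hc with hc | hc <;> rw [hc] at ha
  · left
    refine Subtype.ext ?_
    rw [← CoSuz.decV_encV hs, ← ha, hwv]
  · right
    refine Subtype.ext ?_
    rw [← CoSuz.decV_encV hs, ← ha, AddSubgroup.coe_neg, hwv]
    funext q
    have hlt : ∀ j < 24, Nat.sub 32 (Golay.get X j) < 32 := fun j hj => by
      have h8 := hb (Golay.pt j)
      simp only [CoSuz.decV, Golay.idx_pt hj] at h8
      show 32 - Golay.get X j < 32
      omega
    have hbq := hb q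
    simp only [CoSuz.negX, CoSuz.decV, Pi.neg_apply] at hbq ⊢
    rw [Golay.get_pack 24 _ _ (Golay.idx_lt q) hlt]
    show (((32 - Golay.get X (Golay.idx q) : ℕ)) : ℤ) - 16 = _
    omega

/-- The involution is conjugate to a change of signs. -/
theorem invC_sign : ∃ t : Co0, t * invC * t⁻¹ ∈ signs := by
  classical
  obtain ⟨-, -, -, -, hnd, hlen⟩ := inv_checks
  have hv : sqNorm (invV : Vec) = 64 := by rw [invV_spec.1]; exact invV_spec.2
  have hf : Set.range (fun X : {X // X ∈ invF} => mkV X.1 (inv_inL X.1 X.2)) =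
      {w : leechLattice | sqNorm (w : Vec) = 64 ∧ cls w = cls invV} := by
    refine Set.eq_of_subset_of_ncard_le ?_ ?_
      (((finite_norm 64).preimage Subtype.val_injective.injOn).subset fun w hw => hw.1)
    · rintro _ ⟨X, rfl⟩
      exact ⟨(cross_spec X.2).1, (cross_spec X.2).2.1⟩
    · rw [class_facts.2 invV hv, Set.ncard_range_of_injective]
      · rw [Nat.card_eq_fintype_card, Fintype.card_of_subtype invF.toFinset (fun X => List.mem_toFinset),
          List.toFinset_card_of_nodup hnd, hlen]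
      · intro X Y h
        refine Subtype.ext ?_
        rw [← (cross_spec X.2).2.2.1, ← (cross_spec Y.2).2.2.1]
        exact congrArg (fun w : leechLattice => encV (w : Vec)) h
  obtain ⟨t, ht⟩ := exists_to_axis invV hv
  refine ⟨t, ?_⟩
  have hkey : ∀ i, (t * invC * t⁻¹) • axis i = axis i ∨ (t * invC * t⁻¹) • axis i = -axis i := by
    intro i
    have hu : t⁻¹ • axis i ∈ {w : leechLattice | sqNorm (w : Vec) = 64 ∧ cls w = cls invV} := by
      refine ⟨by rw [co_norm, axis_norm], ?_⟩
      rw [congr_smul (g := t⁻¹) (Baby.cls_axis i (Golay.base5 0)), ← ht, inv_smul_smul]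
    rw [← hf] at hu
    obtain ⟨X, hX⟩ := hu
    have h := (cross_spec X.2).2.2.2
    rw [show mkV X.1 (inv_inL X.1 X.2) = t⁻¹ • axis i from hX] at h
    rw [mul_smul, mul_smul]
    rcases h with h | h <;> rw [h]
    · exact Or.inl (smul_inv_smul t _)
    · right; rw [co_neg, smul_inv_smul]
  have hs : t * invC * t⁻¹ ∈ crossStab := by
    refine mem_crossStab.2 fun w hw => ?_
    show (t * invC * t⁻¹) • w ∈ stdL
    obtain ⟨i, rfl | rfl⟩ := mem_stdL.1 (show w ∈ stdL from hw)
    · rcases hkey i with e | e <;> exact mem_stdL.2 ⟨i, by simp [e]⟩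
    · rcases hkey i with e | e <;> exact mem_stdL.2 ⟨i, by simp [co_neg, e]⟩
  refine ⟨⟨_, hs⟩, ?_, rfl⟩
  exact Equiv.ext fun i => perm_unique _ i i (hkey i)

end Cfsg.Agent.Spor.Leech.SevenFix

end
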