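import Cfsg.Agent.Lib.Spor.Leech.SevenFix.Held
import Cfsg.Agent.Lib.Spor.Leech.SevenFix.InvSign

/-!
An involution inverting a given element of order seven in the centraliser of a centre.
-/

set_option autoImplicit false
set_option maxRecDepth 100000
set_option linter.style.haveILetI false

noncomputable section

namespace Cfsg.Agent.Spor.Leech.SevenFix

open Cfsg Cfsg.Agent.Spor.Leech.OddFix
open Cfsg.Agent.Spor.CoSuz (decV HasT)

/-- An elementary abelian subgroup containing the centre against its centraliser. -/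
theorem card_cent_mul_le {G : Type*} [Group G] [Finite G] {z : G} {Q : Subgroup G} (h : ExtraPair.Ext z Q)
    {D : Subgroup G} (hle : D ≤ Q) (hz : z ∈ D) (hcomm : ∀ a ∈ D, ∀ b ∈ D, a * b = b * a)
    (hsq : ∀ a ∈ D, a * a = 1) : Nat.card ↥(Q ⊓ Subgroup.centralizer (D : Set G)) * Nat.card D ≤ 2 * Nat.card Q := by
  classical
  have key : ∀ S : Finset G, (∀ s ∈ S, s ∈ D) →
      Nat.card ↥(Q ⊓ Subgroup.centralizer ((Subgroup.closure (insert z (S : Set G)) : Subgroup G) : Set G)) *
        Nat.card ↥(Subgroup.closure (insert z (S : Set G))) ≤ 2 * Nat.card Q := by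
    intro S
    induction S using Finset.induction_on with
    | empty =>
      intro _
      have h2 : Nat.card ↥(Subgroup.closure (insert z ((∅ : Finset G) : Set G))) ≤ 2 := by
        rw [Finset.coe_empty, show (insert z (∅ : Set G)) = {z} by simp, ← Subgroup.zpowers_eq_closure,
          Nat.card_zpowers]
        exact Nat.le_of_dvd (by norm_num) (orderOf_dvd_iff_pow_eq_one.2 (by rw [pow_two]; exact h.zz))
      exact (Nat.mul_le_mul (Subgroup.card_le_of_le inf_le_left) h2).trans (le_of_eq (mul_comm _ _))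
    | @insert a S ha ih =>
      intro hS
      have haD : a ∈ D := hS a (Finset.mem_insert_self _ _)
      have hS' : ∀ s ∈ S, s ∈ D := fun s hs => hS s (Finset.mem_insert_of_mem hs)
      have hih := ih hS'
      set K := Subgroup.closure (insert z (S : Set G)) with hK
      set K' := Subgroup.closure (insert z (↑(insert a S) : Set G)) with hK'
      have hKD : K ≤ D := (Subgroup.closure_le _).2 (Set.insert_subset_iff.2 ⟨hz, fun s hs => hS' s hs⟩)
      have hKK' : K ≤ K' := Subgroup.closure_mono (Set.insert_subset_insert (by simp))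
      have haK' : a ∈ K' := Subgroup.subset_closure (by simp)
      by_cases haK : a ∈ K
      · have : K' = K := le_antisymm ((Subgroup.closure_le _).2 (Set.insert_subset_iff.2
          ⟨Subgroup.subset_closure (by simp), fun s hs => by
            rcases Finset.mem_insert.1 (Finset.mem_coe.1 hs) with rfl | hs
            · exact haK
            · exact Subgroup.subset_closure (Set.mem_insert_of_mem _ hs)⟩)) hKK'
        rw [this]; exact hih
      have hcK : Nat.card K' ≤ 2 * Nat.card K := by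
        let U : Subgroup G :=
          { carrier := {y | y ∈ D ∧ (y ∈ K ∨ a * y ∈ K)}
            one_mem' := ⟨one_mem _, Or.inl (one_mem _)⟩
            mul_mem' := fun {y w} hy hw => ⟨mul_mem hy.1 hw.1, by
              rcases hy.2 with h1 | h1 <;> rcases hw.2 with h2 | h2
              · exact Or.inl (mul_mem h1 h2)
              · right; rw [← mul_assoc, hcomm a haD y hy.1, mul_assoc]; exact mul_mem h1 h2
              · right; rw [← mul_assoc]; exact mul_mem h1 h2
              · left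
                have e : (a * y) * (a * w) = y * w := by
                  rw [hcomm a haD y hy.1, mul_assoc, ← mul_assoc a a w, hsq a haD, one_mul]
                rw [← e]; exact mul_mem h1 h2⟩
            inv_mem' := fun {y} hy => by
              rw [inv_eq_of_mul_eq_one_right (hsq y hy.1)]; exact hy }
        have hK'U : K' ≤ U := (Subgroup.closure_le _).2 (Set.insert_subset_iff.2
          ⟨⟨hz, Or.inl (Subgroup.subset_closure (by simp))⟩, fun s hs => ⟨hS s hs, by
            rcases Finset.mem_insert.1 (Finset.mem_coe.1 hs) with rfl | hs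
            · right; rw [hsq s haD]; exact one_mem _
            · exact Or.inl (Subgroup.subset_closure (Set.mem_insert_of_mem _ hs))⟩⟩)
        have hcov : (K' : Set G) ⊆ (K : Set G) ∪ (fun y => a * y) '' (K : Set G) := fun y hy => by
          rcases (hK'U hy).2 with h1 | h1
          · exact Or.inl h1
          · exact Or.inr ⟨a * y, h1, by show a * (a * y) = y; rw [← mul_assoc, hsq a haD, one_mul]⟩
        have h1 := (Set.ncard_le_ncard hcov (Set.toFinite _)).trans (Set.ncard_union_le _ _)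
        rw [Set.ncard_image_of_injective _ (mul_right_injective a), ← Nat.card_coe_set_eq,
          ← Nat.card_coe_set_eq] at h1
        rw [two_mul]; exact h1
      set A := Q ⊓ Subgroup.centralizer (K : Set G) with hA
      set B := Q ⊓ Subgroup.centralizer (K' : Set G) with hB
      have hBA : B ≤ A := inf_le_inf_left Q (Subgroup.centralizer_le (SetLike.coe_subset_coe.2 hKK'))
      have hne : B ≠ A := by
        intro e
        refine haK (h.double_centralizer S (fun s hs => hle (hS' s hs)) a (hle haD) fun y hy hys => ?_)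
        have hyA : y ∈ A := by
          refine ⟨hy, ?_⟩
          rw [hK, Subgroup.centralizer_closure]
          refine Subgroup.mem_centralizer_iff.2 fun s hs => ?_
          rcases Set.mem_insert_iff.1 hs with rfl | hs
          · exact (h.central y hy).symm
          · exact (hys s hs).symm
        rw [← e] at hyA
        exact (Subgroup.mem_centralizer_iff.1 hyA.2 a haK').symm
      obtain ⟨k, hk⟩ := Subgroup.card_dvd_of_le hBA
      have hlt : Nat.card B ≠ Nat.card A := fun e => hne (Subgroup.eq_of_le_of_card_ge hBA e.ge)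
      have hpos : 0 < Nat.card A := Nat.card_pos
      rcases k with _ | _ | k
      · omega
      · omega
      have h2 : 2 * Nat.card B ≤ Nat.card A := by rw [hk]; nlinarith
      calc Nat.card B * Nat.card K' ≤ Nat.card B * (2 * Nat.card K) := Nat.mul_le_mul_left _ hcK
        _ = 2 * Nat.card B * Nat.card K := by ring
        _ ≤ Nat.card A * Nat.card K := Nat.mul_le_mul_right _ h2
        _ ≤ _ := hih
  have h1 := key (Set.toFinite (D : Set G)).toFinset (fun s hs => by simpa using hs)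
  have hcl : Subgroup.closure (insert z (((Set.toFinite (D : Set G)).toFinset : Finset G) : Set G)) = D := by
    rw [Set.Finite.coe_toFinset, Set.insert_eq_of_mem hz, Subgroup.closure_eq]
  rwa [hcl] at h1

variable {G : Type*} [Group G] [Finite G] {z : G} {Q : Subgroup (Subgroup.centralizer ({z} : Set G))} [Q.Normal]
  {e : (Subgroup.centralizer ({z} : Set G)) ⧸ Q ≃* Cfsg.Spor.Co1} {ψ : leechLattice → Q ⧸ Subgroup.center Q}

/-- A conjugate of a change of signs lifts to an involution. -/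
theorem exists_invol (h : MT z Q e ψ) {g : G} (hx : g * z * g⁻¹ ∈ QG Q) (hne : g * z * g⁻¹ ≠ z) {k t : Co0}
    (hk : t * k * t⁻¹ ∈ signs) : ∃ c : Subgroup.centralizer ({z} : Set G), c * c = 1 ∧
      ∃ a : Co0, (QuotientGroup.mk (a * k * a⁻¹) : Cfsg.Spor.Co1) = e (QuotientGroup.mk c) := by
  obtain ⟨v, t₀, -, -, hD, -, hE, -⟩ := h.pair hx hne
  rw [← hE] at hk
  obtain ⟨k', hk', ek⟩ := hk
  rw [SetLike.mem_coe, mem_lift, mem_imageE] at hk'
  obtain ⟨d, hd, hde⟩ := hk'
  have ha : (QuotientGroup.mk k' : Cfsg.Spor.Co1) = e (QuotientGroup.mk d) := by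
    rw [hde, MulEquiv.apply_symm_apply]
  have hk2 : (t₀⁻¹ * t) * k * (t₀⁻¹ * t)⁻¹ = k' := by
    replace ek : t₀ * k' * t₀⁻¹ = t * k * t⁻¹ := ek
    calc (t₀⁻¹ * t) * k * (t₀⁻¹ * t)⁻¹ = t₀⁻¹ * (t * k * t⁻¹) * t₀ := by group
      _ = k' := by rw [← ek]; group
  by_cases hd2 : d * d = 1
  · exact ⟨d, hd2, t₀⁻¹ * t, by rw [hk2, ha]⟩
  rcases (h.ext' g).sq _ hd with e1 | e1
  · exact absurd (Subtype.ext e1) hd2
  set D := QG Q ⊓ PG Q g with hDdef
  have hDP : D ≤ PG Q g := inf_le_right
  have hsD : g * z * g⁻¹ ∈ D := ⟨hx, (h.ext' g).mem⟩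
  have hle : D ≤ PG Q g ⊓ Subgroup.centralizer (D : Set G) := fun a ha' =>
    ⟨ha'.2, Subgroup.mem_centralizer_iff.2 fun b hb => h.inter_comm hne b hb a ha'⟩
  have hcard := card_cent_mul_le (h.ext' g) hDP hsD (h.inter_comm hne) (h.inter_sq hne)
  rw [h.card_PG g, hD] at hcard
  have hdD : (d : G) ∉ D := fun hdm => hd2 (Subtype.ext (h.inter_sq hne _ hdm))
  obtain ⟨a, haD, had⟩ : ∃ a ∈ D, a * (d : G) ≠ (d : G) * a := by
    by_contra hcon
    simp only [not_exists, not_and, not_not] at hcon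
    have hmem : (d : G) ∈ PG Q g ⊓ Subgroup.centralizer (D : Set G) :=
      ⟨hd, Subgroup.mem_centralizer_iff.2 hcon⟩
    have hlt : D < PG Q g ⊓ Subgroup.centralizer (D : Set G) := lt_of_le_of_ne hle fun e' => hdD (e' ▸ hmem)
    have h14 : Nat.card D < Nat.card ↥(PG Q g ⊓ Subgroup.centralizer (D : Set G)) := by
      by_contra hge
      exact hlt.ne (Subgroup.eq_of_le_of_card_ge hle (not_lt.1 hge))
    rw [hD] at h14
    have := Nat.mul_le_mul_right (2 ^ 13) (Nat.succ_le_of_lt h14)
    norm_num at hcard this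
    omega
  obtain ⟨q, hq⟩ := mem_QG.1 haD.1
  have e2 := (((h.ext' g).conj_cases hd haD.2).resolve_left had).2
  refine ⟨d * q, Subtype.ext ?_, t₀⁻¹ * t, ?_⟩
  · simp only [Subgroup.coe_mul, hq, OneMemClass.coe_one]
    calc (d : G) * a * ((d : G) * a) = (d : G) * (a * d * a⁻¹) * (a * a) := by group
      _ = (d : G) * ((d : G) * (g * z * g⁻¹)) * (a * a) := by rw [e2]
      _ = ((d : G) * d) * (g * z * g⁻¹) * (a * a) := by simp only [mul_assoc]
      _ = (g * z * g⁻¹) * (g * z * g⁻¹) * (a * a) := by rw [e1]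
      _ = 1 := by rw [h.inter_sq hne a haD, mul_one]; exact (h.ext' g).zz
  · rw [hk2, ha, QuotientGroup.mk_mul, (QuotientGroup.eq_one_iff (q : Subgroup.centralizer ({z} : Set G))).2 q.2,
      mul_one]

/-- An involution inverting the element. -/
theorem exists_inverter {b s : G} (S : Setup z Q e ψ 7 P0 Bs Gi b s none) :
    ∃ τ : G, orderOf τ = 2 ∧ τ * z = z * τ ∧ τ * b * τ⁻¹ = b⁻¹ := by
  haveI : Fact (Nat.Prime 7) := ⟨by norm_num⟩
  obtain ⟨g, hg⟩ := isConj_iff.1 S.conj
  obtain ⟨t, ht⟩ := invC_sign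
  obtain ⟨c, hc2, a, hca⟩ := exists_invol S.mt (g := g) (hg ▸ S.sQ) (hg ▸ S.s_facts.2.2) ht
  -- move the involution over the given automorphism
  obtain ⟨x, hx⟩ := S.mt.exists_elt a
  obtain ⟨c', hc'i, hec⟩ : ∃ c' : Subgroup.centralizer ({z} : Set G), c'⁻¹ = c' ∧
      e (QuotientGroup.mk c') = QuotientGroup.mk invC := by
    refine ⟨x⁻¹ * c * x, inv_eq_of_mul_eq_one_right ?_, ?_⟩
    · calc x⁻¹ * c * x * (x⁻¹ * c * x) = x⁻¹ * (c * c) * x := by group
        _ = 1 := by rw [hc2]; group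
    · rw [QuotientGroup.mk_mul, QuotientGroup.mk_mul, QuotientGroup.mk_inv, map_mul, map_mul, map_inv, ← hca,
        ← hx, QuotientGroup.mk_mul, QuotientGroup.mk_mul, QuotientGroup.mk_inv]
      group
  let b' : Subgroup.centralizer ({z} : Set G) := ⟨b, S.bmem⟩
  have hb' : orderOf b' = 7 := by rw [← Subgroup.orderOf_coe]; exact S.ord
  obtain ⟨hinv2, hinvP⟩ := invC_facts
  -- the product of the involution and its conjugate
  set c'' := b' * c' * b'⁻¹ with hc''
  set m := c' * c'' with hm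
  have hflip : c' * m * c'⁻¹ = m⁻¹ := by
    rw [hm, mul_inv_rev, hc'i]
    calc c' * (c' * c'') * c' = (c' * c'⁻¹) * (c'' * c') := by rw [hc'i]; group
      _ = c''⁻¹ * c' := by
        rw [mul_inv_cancel, one_mul, hc'', mul_inv_rev, mul_inv_rev, inv_inv, hc'i, mul_assoc b' c']
  have hem : e (QuotientGroup.mk m) = QuotientGroup.mk (P0 ^ 5) := by
    rw [hm, hc'', QuotientGroup.mk_mul, QuotientGroup.mk_mul, QuotientGroup.mk_mul, QuotientGroup.mk_inv, map_mul,
      map_mul, map_mul, map_inv, ← S.img, hec, ← QuotientGroup.mk_inv, ← QuotientGroup.mk_mul, ← QuotientGroup.mk_mul,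
      ← QuotientGroup.mk_mul]
    congr 1
    have h6 : P0 ^ 5 * P0 * P0 = 1 := by rw [← pow_succ, ← pow_succ]; exact P0_pow
    calc invC * (P0 * invC * P0⁻¹) = (invC * P0) * invC * P0⁻¹ := by group
      _ = P0 ^ 6 * (invC * invC) * P0⁻¹ := by rw [hinvP]; group
      _ = P0 ^ 5 := by rw [hinv2, mul_one, pow_succ, mul_inv_cancel_right]
  have hm7 : m ^ 7 ∈ Q := by
    rw [← QuotientGroup.eq_one_iff, QuotientGroup.mk_pow, ← MulEquiv.map_eq_one_iff e, map_pow, hem,
      ← QuotientGroup.mk_pow, ← pow_mul, show 5 * 7 = 7 * 5 from rfl, pow_mul, P0_pow, one_pow, QuotientGroup.mk_one]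
  have hm72 : (m ^ 2 ^ 25) ^ 7 = 1 := by
    rw [← pow_mul, mul_comm, pow_mul]
    have h2 := Subgroup.orderOf_dvd_natCard Q hm7
    rw [S.mt.card] at h2
    exact orderOf_dvd_iff_pow_eq_one.1 h2
  have h5 : ¬ 7 ∣ 5 * 2 ^ 25 := by norm_num
  have hem' : (QuotientGroup.mk (m ^ 2 ^ 25) : _ ⧸ Q) = QuotientGroup.mk (b' ^ (5 * 2 ^ 25)) := e.injective (by
    rw [QuotientGroup.mk_pow, map_pow, hem, ← QuotientGroup.mk_pow, ← pow_mul]
    exact S.img_pow _)
  have hne : m ^ 2 ^ 25 ≠ 1 := fun e' => by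
    rw [e', QuotientGroup.mk_one, eq_comm, QuotientGroup.eq_one_iff] at hem'
    have h2 := S.inter_one (pow_mem (Subgroup.mem_zpowers b) (5 * 2 ^ 25)) (mem_QG.2 ⟨⟨_, hem'⟩, rfl⟩)
    rw [← orderOf_dvd_iff_pow_eq_one, S.ord] at h2
    exact h5 h2
  obtain ⟨u, -, hu⟩ := fix_conj Q (by norm_num : Nat.Prime 7) (orderOf_eq_prime hm72 hne)
    (by rw [Nat.Coprime.orderOf_pow (by rw [hb']; exact (by norm_num : Nat.Prime 7).coprime_iff_not_dvd.2 h5), hb'])
    S.not_dvd_card hem'
  set τ := u * c' * u⁻¹ with hτ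
  have hτb : τ * b' ^ (5 * 2 ^ 25) * τ⁻¹ = (b' ^ (5 * 2 ^ 25))⁻¹ := by
    rw [← hu, hτ]
    calc u * c' * u⁻¹ * (u * m ^ 2 ^ 25 * u⁻¹) * (u * c' * u⁻¹)⁻¹ = u * (c' * m * c'⁻¹) ^ 2 ^ 25 * u⁻¹ := by
          rw [conj_pow]; group
      _ = (u * m ^ 2 ^ 25 * u⁻¹)⁻¹ := by rw [hflip, inv_pow]; group
  obtain ⟨j, hj⟩ : ∃ j : ℕ, 5 * 2 ^ 25 * j % 7 = 1 := ⟨5, by norm_num⟩
  have hbj : (b' ^ (5 * 2 ^ 25)) ^ j = b' := by rw [← pow_mul, ← pow_mod_orderOf, hb', hj, pow_one]
  have hτb1 : τ * b' * τ⁻¹ = b'⁻¹ := by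
    have h2 := congrArg (· ^ j) hτb
    simp only [conj_pow, inv_pow, hbj] at h2
    exact h2
  have hτ1 : τ ≠ 1 := fun e' => by
    rw [e', one_mul, inv_one, mul_one, eq_inv_iff_mul_eq_one, ← pow_two, ← orderOf_dvd_iff_pow_eq_one, hb'] at hτb1
    norm_num at hτb1
  refine ⟨τ, ?_, Subgroup.mem_centralizer_singleton_iff.1 τ.2, congrArg Subtype.val hτb1⟩
  rw [Subgroup.orderOf_coe]
  refine orderOf_eq_prime ?_ hτ1
  rw [pow_two, hτ]
  calc u * c' * u⁻¹ * (u * c' * u⁻¹) = u * (c' * c'⁻¹) * u⁻¹ := by rw [hc'i]; group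
    _ = 1 := by group

end Cfsg.Agent.Spor.Leech.SevenFix

end
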