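import Cfsg.Agent.Lib.Fus.HeUniq.Fusion

/-!
# The centraliser of an involution with a conjugate, among the four models
-/

set_option autoImplicit false
set_option linter.style.haveILetI false
set_option linter.unusedSectionVars false
set_option maxRecDepth 100000

namespace Cfsg.Agent.Spor.Leech.SevenFix.HeModel

open Cfsg.Agent.Fus.HeUniq

variable {G : Type*} [Group G]

/-- The centraliser of an involution with coordinates and tables of involutions. -/
structure Cd (z : G) (Q : Subgroup (CC z)) (b tw : Bool) (φ : CC z → ℕ) (reps roots : List ℕ)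
    (tab : List (ℕ × ℕ × ℕ)) : Prop where
  z2 : orderOf z = 2
  cardC : Nat.card (CC z) = 21504
  co : Coords (CC z) Q (zc z) b tw φ
  roots_ok : chkRoots b tw reps roots = true
  tab_ok : chkTab b tw reps roots tab = true

variable {z : G} {Q : Subgroup (CC z)} {b tw : Bool} {φ : CC z → ℕ} {reps roots : List ℕ}
  {tab : List (ℕ × ℕ × ℕ)} (D : Cd z Q b tw φ reps roots tab)

include D

theorem Cd.roots_eq : (elemList b tw).filter (fun c => (oneC :: reps).any fun r => Nat.beq r (mulM c c)) =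
    roots := by simpa [chkRoots] using D.roots_ok

theorem Cd.tab_spec : invsOf roots = tab.map Prod.fst ∧
    (∀ e ∈ tab, e.2.1 < reps.length ∧ e.2.2 < 21504 ∧
      mulM (elemAt b tw e.2.2) (reps.getD e.2.1 0) = mulM e.1 (elemAt b tw e.2.2)) ∧
    zC0 ∈ reps ∧ ∀ r ∈ reps, r ∈ tab.map Prod.fst := by
  have h := D.tab_ok
  simp only [chkTab, Bool.and_eq_true, List.all_eq_true, beq_iff_eq, Nat.beq_eq, Nat.blt_eq,
    List.contains_iff_mem, List.any_eq_true] at h
  obtain ⟨⟨⟨h1, h2⟩, h3⟩, h4⟩ := h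
  refine ⟨h1, fun e he => ⟨(h2 e he).1.1, (h2 e he).1.2, (h2 e he).2⟩, h3, fun r hr => ?_⟩
  obtain ⟨c, hc, hcr⟩ := h4 r hr
  exact hcr ▸ hc

theorem Cd.invs_eq : invsOf roots =
    (elemList b tw).filter fun c => Nat.beq (mulM c c) oneC && !Nat.beq c oneC := by
  rw [invsOf, filter_sub D.roots_eq _ fun c hc => ?_]
  simp only [Bool.and_eq_true, Nat.beq_eq] at hc
  simp only [List.any_eq_true, List.mem_cons, Nat.beq_eq]
  exact ⟨oneC, Or.inl rfl, hc.1.symm⟩

theorem Cd.comm_iff (x u : CC z) : (x : G) * u = u * x ↔ comC (φ x) (φ u) = true := by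
  rw [D.co.comC_iff, Subtype.ext_iff, Subgroup.coe_mul, Subgroup.coe_mul]

theorem Cd.sq_iff (x u : CC z) : (x : G) * x = u ↔ Nat.beq (mulM (φ x) (φ x)) (φ u) = true := by
  rw [Nat.beq_eq, ← D.co.map_mul, D.co.eq_iff, Subtype.ext_iff, Subgroup.coe_mul]

theorem Cd.inv_iff (x : CC z) :
    ((x : G) * x = 1 ∧ (x : G) ≠ 1) ↔ (Nat.beq (mulM (φ x) (φ x)) oneC && !Nat.beq (φ x) oneC) = true := by
  have h1 : (x : G) = 1 ↔ Nat.beq (φ x) oneC = true := by
    rw [Nat.beq_eq, ← D.co.map_one, D.co.eq_iff, Subtype.ext_iff]; simp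
  rw [Bool.and_eq_true, Bool.not_eq_true', ← Bool.not_eq_true, ← h1, ← D.co.map_one, ← D.sq_iff]
  simp

theorem Cd.mem_target {c r : ℕ} (hr : r ∈ reps) (hc : Nat.beq (mulM c c) r = true) :
    ((oneC :: reps).any fun s => Nat.beq s (mulM c c)) = true := by
  simp only [List.any_eq_true, Nat.beq_eq]
  exact ⟨r, List.mem_cons_of_mem _ hr, (Nat.eq_of_beq_eq_true hc).symm⟩

theorem Cd.conj_inv {x : CC z} (h : IsConj (x : G) z) : (x : G) * x = 1 ∧ (x : G) ≠ 1 := by
  have ho : orderOf (x : G) = 2 := by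
    obtain ⟨g, hg⟩ := _root_.isConj_iff.1 h
    have := (MulAut.conj g).orderOf_eq (x : G)
    rw [MulAut.conj_apply, hg, D.z2] at this
    exact this.symm
  refine ⟨?_, fun e => by rw [e, orderOf_one] at ho; omega⟩
  have h2 := pow_orderOf_eq_one (x : G)
  rwa [ho, pow_two] at h2

variable [Finite G]

theorem Cd.count (P : ℕ → Bool) (S : CC z → Prop) (hS : ∀ x, S x ↔ P (φ x) = true) :
    Nat.card {x : CC z // S x} = ((elemList b tw).filter P).length := by
  rw [← D.co.card_filter D.cardC P]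
  exact Nat.card_congr (Equiv.subtypeEquivRight hS)

theorem Cd.nI_eq (u : CC z) : nI z (u : G) = nInv roots (φ u) := by
  rw [nI, nInv, D.invs_eq, List.filter_filter,
    D.count (fun c => comC c (φ u) && (Nat.beq (mulM c c) oneC && !Nat.beq c oneC))]
  intro x
  rw [Bool.and_eq_true, ← D.comm_iff, ← D.inv_iff, ← and_assoc, and_comm]

theorem Cd.nR_eq (u : CC z) (hu : φ u ∈ reps) : nR z (u : G) = nRoot roots (φ u) := by
  rw [nR, nRoot, ← filter_sub D.roots_eq _ fun c hc => D.mem_target hu hc]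
  exact D.count _ _ fun x => D.sq_iff x u

theorem Cd.nZ_eq (u : CC z) : nZ z (u : G) = nRootZ roots (φ u) := by
  rw [nZ, nRootZ, ← filter_sub D.roots_eq _ fun c hc => D.mem_target D.tab_spec.2.2.1 (Bool.and_eq_true_iff.1 hc).1]
  refine D.count _ _ fun x => ?_
  rw [Bool.and_eq_true, ← D.comm_iff, show zC0 = φ (zc z) from D.co.map_z.symm, ← D.sq_iff]
  rfl

/-- A conjugate is carried in the centraliser to a conjugate representative. -/
theorem Cd.to_rep {x : CC z} (h : IsConj (x : G) z) : ∃ e ∈ tab, φ x = e.1 ∧ ∃ k r : CC z,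
    φ r = reps.getD e.2.1 0 ∧ x = k * r * k⁻¹ ∧ IsConj (r : G) z := by
  have hi := D.conj_inv h
  have hm : φ x ∈ tab.map Prod.fst := by
    rw [← D.tab_spec.1, D.invs_eq, List.mem_filter]
    exact ⟨D.co.mem x, (D.inv_iff x).1 hi⟩
  obtain ⟨e, he, hxe⟩ := List.mem_map.1 hm
  obtain ⟨hlt, hk, heq⟩ := D.tab_spec.2.1 e he
  obtain ⟨k, hkk⟩ := (D.co.range _).1 (elemAt_mem b tw hk)
  have hr0 : reps.getD e.2.1 0 ∈ elemList b tw := by
    have h1 := D.tab_spec.1 ▸ D.tab_spec.2.2.2 _ (getD_mem (d := 0) hlt)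
    rw [D.invs_eq, List.mem_filter] at h1
    exact h1.1
  obtain ⟨r, hr⟩ := (D.co.range _).1 hr0
  have hxr : x = k * r * k⁻¹ := by
    have : k * r = x * k := D.co.inj (by rw [D.co.map_mul, D.co.map_mul, hkk, hr, ← hxe, heq])
    rw [this, mul_inv_cancel_right]
  refine ⟨e, he, hxe.symm, k, r, hr, hxr, IsConj.trans ?_ h⟩
  exact _root_.isConj_iff.2 ⟨(k : G), by rw [hxr]; rfl⟩

/-- The classes that can hold a conjugate other than the involution itself. -/
theorem Cd.only {allowed : List ℕ} (hchk : chkOnly reps roots allowed = true) {x : CC z}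
    (hx : IsConj (x : G) z) (hne : (x : G) ≠ z) : ∃ e ∈ tab, φ x = e.1 ∧ e.2.1 ∈ allowed := by
  obtain ⟨e, he, hxe, k, r, hr, hxr, hrz⟩ := D.to_rep hx
  refine ⟨e, he, hxe, ?_⟩
  by_contra hall
  have hrne : ∀ {y l : CC z}, (y : G) = (l : G) * z * (l : G)⁻¹ → (y : G) = z := fun {y l} h => by
    rw [h, cc_comm l, mul_inv_cancel_right]
  have hr0 : reps.getD e.2.1 0 ≠ zC0 := fun h0 => hne (hrne (l := k) (by
    rw [hxr, show r = zc z from D.co.inj (by rw [hr, h0, D.co.map_z]; rfl)]; rfl))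
  -- the partner
  obtain ⟨g, hg⟩ := _root_.isConj_iff.1 hrz
  have hvc : g * z * g⁻¹ * z = z * (g * z * g⁻¹) := by
    have := cjg_comm g (cc_comm r).symm
    rwa [hg] at this
  set v : CC z := ⟨g * z * g⁻¹, Subgroup.mem_centralizer_singleton_iff.2 hvc⟩ with hv
  obtain ⟨e', he', -, l, w, hw, hvw, -⟩ := D.to_rep (x := v) (_root_.isConj_iff.2 ⟨g, rfl⟩ : IsConj z _).symm
  have hj := (D.tab_spec.2.1 e' he').1
  have h1 : (l : G)⁻¹ * g * r * ((l : G)⁻¹ * g)⁻¹ = z := by
    rw [show (l : G)⁻¹ * g * r * ((l : G)⁻¹ * g)⁻¹ = (l : G)⁻¹ * (g * r * g⁻¹) * l by group, hg, mul_assoc,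
      ← cc_comm l, inv_mul_cancel_left]
  have h2 : (l : G)⁻¹ * g * z * ((l : G)⁻¹ * g)⁻¹ = w := by
    rw [show (l : G)⁻¹ * g * z * ((l : G)⁻¹ * g)⁻¹ = (l : G)⁻¹ * (g * z * g⁻¹) * l by group,
      show g * z * g⁻¹ = ((l * w * l⁻¹ : CC z) : G) from congrArg Subtype.val (hvw ▸ hv.symm)]
    simp [mul_assoc]
  obtain ⟨t1, t2, -⟩ := counts_transport h1 h2
  rw [D.nI_eq, D.nI_eq, hr, hw] at t1
  rw [D.nR_eq r (hr ▸ getD_mem (D.tab_spec.2.1 e he).1), D.nZ_eq, hr, hw] at t2
  simp only [chkOnly, List.all_eq_true, List.mem_range, Bool.or_eq_true, List.any_eq_true, Nat.beq_eq,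
    Bool.not_eq_true', ← Bool.not_eq_true] at hchk
  rcases hchk _ (D.tab_spec.2.1 e he).1 with (h | ⟨a, ha, hai⟩) | h
  · exact hr0 h
  · exact hall (hai ▸ ha)
  · rcases h _ (getD_mem (d := 0) hj) with h' | h'
    · have hwz : w = zc z := D.co.inj (by rw [hw, h', D.co.map_z]; rfl)
      rw [hwz] at h2
      have h3 : (r : G) = z := mul_left_cancel (mul_right_cancel (h1.trans h2.symm))
      exact hne (hrne (l := k) (by rw [hxr, show r = zc z from Subtype.ext h3]; rfl))
    · simp only [Bool.and_eq_true, Nat.beq_eq] at h'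
      exact h' ⟨t1, t2⟩

omit D

/-- The places a conjugate can take in the model with uniserial module. -/
def unList : List ℕ := zC0 :: ((invTabUN.filter fun e => Nat.beq e.2.1 3).map Prod.fst)

theorem unList_facts : unList.length = 15 ∧ unList.all (fun c => unList.all fun d => comC c d) = true := by
  decide +kernel

theorem Cd.un_cls {z : G} {Q : Subgroup (CC z)} {φ : CC z → ℕ} (D : Cd z Q true false φ repsUN rootsUN invTabUN)
    {x : CC z} (hx : IsConj (x : G) z) : φ x ∈ unList := by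
  rcases eq_or_ne (x : G) z with h | h
  · exact List.mem_cons.2 (Or.inl (by rw [show x = zc z from Subtype.ext h, D.co.map_z]; rfl))
  · obtain ⟨e, he, hxe, ha⟩ := D.only onlyUN hx h
    simp only [List.mem_singleton] at ha
    exact List.mem_cons_of_mem _ (List.mem_map.2 ⟨e, List.mem_filter.2 ⟨he, by simp [ha]⟩, hxe.symm⟩)

theorem Cd.un_comm {z : G} {Q : Subgroup (CC z)} {φ : CC z → ℕ} (D : Cd z Q true false φ repsUN rootsUN invTabUN)
    {x y : CC z} (hx : IsConj (x : G) z) (hy : IsConj (y : G) z) : (x : G) * y = y * x :=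
  (D.comm_iff x y).2 (List.all_eq_true.1 (List.all_eq_true.1 unList_facts.2 _ (D.un_cls hx)) _ (D.un_cls hy))

/-- A conjugate leaves the split model or the one with uniserial module. -/
theorem exists_model {z : G} {Q : Subgroup (CC z)} (hz : orderOf z = 2) (hC : Nat.card (CC z) = 21504)
    (hco : ∃ b tw φ, Coords (CC z) Q (zc z) b tw φ) (hc : ∃ x : CC z, IsConj (x : G) z ∧ (x : G) ≠ z) :
    (∃ φ, Coords (CC z) Q (zc z) false false φ) ∨ ∃ φ, Cd z Q true false φ repsUN rootsUN invTabUN := by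
  obtain ⟨b, tw, φ, co⟩ := hco
  obtain ⟨x, hx, hne⟩ := hc
  cases b <;> cases tw
  · exact Or.inl ⟨φ, co⟩
  · obtain ⟨e, -, -, h⟩ := (⟨hz, hC, co, rootsST_ok, tabST_ok⟩ :
      Cd z Q false true φ repsST rootsST invTabST).only onlyST hx hne
    simp at h
  · exact Or.inr ⟨φ, hz, hC, co, rootsUN_ok, tabUN_ok⟩
  · obtain ⟨e, -, -, h⟩ := (⟨hz, hC, co, rootsUT_ok, tabUT_ok⟩ :
      Cd z Q true true φ repsUT rootsUT invTabUT).only onlyUT hx hne
    simp at h

end Cfsg.Agent.Spor.Leech.SevenFix.HeModel
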