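import Cfsg.Agent.Lib.Spor.Leech.SevenFix.InterPair

/-!
# In the section at an element of order seven two extraspecial groups share a non-central class
-/

set_option autoImplicit false
set_option maxRecDepth 100000
set_option linter.style.haveILetI false

noncomputable section

namespace Cfsg.Agent.Spor.Leech.SevenFix

open Cfsg Cfsg.Agent.Spor.Leech.OddFix

theorem fixed_pair : ∃ i j : GolayPt, i ≠ j ∧ Golay.pt (Golay.get M24Seven.g7 (Golay.idx i)) = i ∧
    Golay.pt (Golay.get M24Seven.g7 (Golay.idx j)) = j := by decide +kernel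

theorem sign_pair {i j : GolayPt} (hij : i ≠ j) {k : Co0} (hk : k ∈ signs) :
    cls (k • pairV i j) = cls (pairV i j) ∨ cls (k • pairV i j) = cls (pairV i j + axis none) := by
  obtain ⟨c, hc, rfl⟩ := mem_signs.1 hk
  have hval : ∀ p, ((mono (one_mem M24) hc • pairV i j : leechLattice) : Vec) p =
      if p ∈ c then -(pairV i j : Vec) p else (pairV i j : Vec) p := fun p => by
    rw [mono_apply, signedPerm]; rfl
  have hneg : cls (-pairV i j) = cls (pairV i j) := cls_iff_double.2 ⟨-pairV i j, by abel⟩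
  have hone : ∀ (a b : GolayPt), a ≠ b → a ∈ c → b ∉ c → pairV a b = pairV i j →
      cls (mono (one_mem M24) hc • pairV i j) = cls (pairV i j + axis none) := by
    intro a b hab ha hb e
    rw [cls_add_axis _ none a, ← e]
    refine congrArg cls (Subtype.ext (funext fun p => ?_))
    rw [e, hval, AddSubgroup.coe_sub, Pi.sub_apply, ← e, pairV_apply, axis_val, Pi.single_apply]
    by_cases hpa : p = a
    · subst hpa
      simp [ha, hab]
    · by_cases hpb : p = b
      · subst hpb; simp [hb, hpa]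
      · simp [hpa, hpb]
  have hcomm : pairV j i = pairV i j := Subtype.ext (funext fun p => by rw [pairV_apply, pairV_apply, add_comm])
  by_cases hi : i ∈ c <;> by_cases hj : j ∈ c
  · left
    rw [show mono (one_mem M24) hc • pairV i j = -pairV i j from ?_, hneg]
    refine Subtype.ext (funext fun p => ?_)
    rw [hval, AddSubgroup.coe_neg, Pi.neg_apply, pairV_apply]
    by_cases hp : p ∈ c
    · rw [if_pos hp]
    · rw [if_neg hp, if_neg (fun e : p = i => hp (e ▸ hi)), if_neg (fun e : p = j => hp (e ▸ hj))]; norm_num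
  · exact Or.inr (hone i j hij hi hj rfl)
  · exact Or.inr (hone j i hij.symm hj hi hcomm)
  · left
    refine congrArg cls (Subtype.ext (funext fun p => ?_))
    rw [hval, pairV_apply]
    by_cases hp : p ∈ c
    · rw [if_pos hp, if_neg (fun e : p = i => hi (e ▸ hp)), if_neg (fun e : p = j => hj (e ▸ hp))]; norm_num
    · rw [if_neg hp]

variable {G : Type*} [Group G] [Finite G] {z : G} {Q : Subgroup (Subgroup.centralizer ({z} : Set G))} [hQn : Q.Normal]
  {e : (Subgroup.centralizer ({z} : Set G)) ⧸ Q ≃* Cfsg.Spor.Co1} {ψ : leechLattice → Q ⧸ Subgroup.center Q}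
  {b s : G} [hn : (NT b).Normal]

theorem shared (S : Setup z Q e ψ 7 P0 Bs Gi b s none)
    (hswap : ∃ h : G, h * z * h⁻¹ = s ∧ h * b * h⁻¹ ∈ Subgroup.zpowers b) {r : S.Dz} (hr : r ∈ S.R)
    (hrc : IsConj S.zb (r : CB b ⧸ NT b)) (hrz : (r : CB b ⧸ NT b) ≠ S.zb) :
    ∃ (γ : CB b ⧸ NT b) (y y' : S.Dz), γ * S.zb * γ⁻¹ = (r : CB b ⧸ NT b) ∧ y ∈ S.R ∧ y' ∈ S.R ∧ y ≠ 1 ∧
      y * y = 1 ∧ ¬ IsConj S.zb (y : CB b ⧸ NT b) ∧ γ * (y' : CB b ⧸ NT b) * γ⁻¹ = (y : CB b ⧸ NT b) := by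
  obtain ⟨x, hx⟩ := S.eR.surjective ⟨r, hr⟩
  obtain rfl : (S.eR x : S.Dz) = r := congrArg Subtype.val hx
  have hxz : (x : G) ≠ z := fun h => hrz (by
    rw [show x = ⟨z, S.z_mem0⟩ from Subtype.ext h]; exact S.eR_z)
  rw [S.isConj_iff_reached hswap exists_norm frames] at hrc
  obtain ⟨w, hw, hw64⟩ := hrc.resolve_left hxz
  have hreach := frames w ((S.fix_iff hw).1 (S.mem_Q0.1 x.2).2) hw64
  obtain ⟨g, hgb, hgx⟩ := S.conj_reached hswap exists_norm x.2 hw hreach
  obtain ⟨c, hcz, hcn, hcx⟩ := S.exists_carrier x.2 hw hreach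
  obtain ⟨h, hhz, hhb⟩ := hswap
  -- the involution of norm 32 beside the first centre
  obtain ⟨i, j, hij, hi, hj⟩ := fixed_pair
  obtain ⟨y₀, hy₀⟩ := S.mt.exists_rep (pairV i j)
  have hfix : Fixed P0 (pairV i j) := by
    unfold Fixed
    have e : P0 • pairV i j = pairV i j := Subtype.ext (funext fun q => by
      rw [P0, mono_apply, signedPerm, if_neg (Finset.notMem_empty _), pairV_apply, pairV_apply]
      simp only [Equiv.symm_apply_eq, gen_apply, hi, hj])
    rw [e]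
  have hy0 := S.rep_Q0 hy₀ hfix
  obtain ⟨hsq, hy1, hyz⟩ := S.mt.rep_involution hy₀ (Or.inl (pairV_norm hij))
  have hys : y₀ * s = s * y₀ := by
    refine ((Baby.comm_iff S.mt S.rep hy₀).2 ?_).symm
    rw [dot_axis, pairV_apply]
    split_ifs <;> norm_num
  have hP := mem_inter S.mt hhz S.sQ S.s_facts.2.2 S.rep hy₀ hys fun k hk => sign_pair hij hk
  obtain ⟨q, hq, hqe⟩ := hP
  -- its transport
  have hd : (g⁻¹ * c * h) * z = z * (g⁻¹ * c * h) := by
    calc g⁻¹ * c * h * z = g⁻¹ * (c * (h * z * h⁻¹) * c⁻¹) * c * h := by group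
      _ = g⁻¹ * (g * z * g⁻¹) * c * h := by rw [hhz, hcx, hgx]
      _ = z * (g⁻¹ * c * h) := by group
  set d := g⁻¹ * c * h with hdd
  set y := c * y₀ * c⁻¹ with hyd
  have hyQ : y ∈ QG Q := S.mt.ext.norm _ hcz _ (MT.rep_mem hy₀)
  have hyb : y * b = b * y := by
    have hm := (Subgroup.mem_normalizer_iff.1 (inv_mem hcn) b).1 (Subgroup.mem_zpowers b)
    rw [inv_inv] at hm
    calc c * y₀ * c⁻¹ * b = c * (y₀ * (c⁻¹ * b * c)) * c⁻¹ := by group
      _ = c * ((c⁻¹ * b * c) * y₀) * c⁻¹ := by rw [Setup.comm_zpowers (S.mem_Q0.1 hy0).2 hm]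
      _ = b * (c * y₀ * c⁻¹) := by group
  have hy'e : g⁻¹ * y * g = d * q * d⁻¹ := by
    rw [hyd, hdd, ← show h * q * h⁻¹ = y₀ from hqe]; group
  have hy'Q : g⁻¹ * y * g ∈ QG Q := by rw [hy'e]; exact S.mt.ext.norm _ hd _ hq
  have hgb' : g⁻¹ * b = b * g⁻¹ := (show Commute g b from hgb).inv_left.eq
  have hy'b : g⁻¹ * y * g * b = b * (g⁻¹ * y * g) :=
    (((show Commute g⁻¹ b from hgb').mul_left hyb).mul_left hgb).eq
  let Y : S.Q0 := ⟨y, S.mem_Q0.2 ⟨hyQ, hyb⟩⟩
  let Y' : S.Q0 := ⟨g⁻¹ * y * g, S.mem_Q0.2 ⟨hy'Q, hy'b⟩⟩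
  refine ⟨QuotientGroup.mk' (NT b) ⟨g, mem_CB.2 hgb⟩, S.eR Y, S.eR Y', ?_, (S.eR Y).2, (S.eR Y').2, ?_, ?_, ?_, ?_⟩
  · rw [Setup.zb, ← map_inv, ← map_mul, ← map_mul]
    show _ = QuotientGroup.mk' (NT b) (S.incl x : CB b)
    exact congrArg _ (Subtype.ext hgx)
  · intro h1
    have h2 : Y = 1 := S.eR.injective (Subtype.ext (h1.trans (by rw [map_one]; rfl)))
    exact hy1 (conj_eq_one_iff.1 (congrArg Subtype.val h2))
  · have h2 : Y * Y = 1 := Subtype.ext (by
      show c * y₀ * c⁻¹ * (c * y₀ * c⁻¹) = 1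
      calc c * y₀ * c⁻¹ * (c * y₀ * c⁻¹) = c * (y₀ * y₀) * c⁻¹ := by group
        _ = 1 := by rw [hsq]; group)
    rw [← Subgroup.coe_mul, ← map_mul, h2, map_one]; rfl
  · intro hc
    rw [S.isConj_iff_reached ⟨h, hhz, hhb⟩ exists_norm frames] at hc
    rcases hc with hc | ⟨v, hv, hv64⟩
    · refine hyz ?_
      calc y₀ = c⁻¹ * (c * y₀ * c⁻¹) * c := by group
        _ = c⁻¹ * z * c := by rw [show c * y₀ * c⁻¹ = z from hc]
        _ = z := by rw [mul_assoc, ← hcz, inv_mul_cancel_left]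
    · obtain ⟨kc, hkc⟩ := S.mt.exists_auto ⟨c, Subgroup.mem_centralizer_singleton_iff.2 hcz⟩
      have h3 : cls (kc • pairV i j) = cls v := S.mt.rep_cls (S.mt.rep_conj hkc hy₀) hv
      have h32 : sqNorm ((kc • pairV i j : leechLattice) : Vec) = 32 := by rw [co_norm, pairV_norm hij]
      rcases congr_short (kc • pairV i j).2 v.2 (by omega) (by omega) (cls_eq.1 h3) with e' | e' | ⟨e', -⟩
      · rw [e'] at h32; omega
      · rw [e', norm_neg] at h32; omega
      · omega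
  · show QuotientGroup.mk' (NT b) _ * QuotientGroup.mk' (NT b) (S.incl Y' : CB b) * (QuotientGroup.mk' (NT b) _)⁻¹ =
      QuotientGroup.mk' (NT b) (S.incl Y : CB b)
    rw [← map_inv, ← map_mul, ← map_mul]
    refine congrArg _ (Subtype.ext ?_)
    show g * (g⁻¹ * y * g) * g⁻¹ = y
    group

end Cfsg.Agent.Spor.Leech.SevenFix

end
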