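import Cfsg.Agent.Lib.Spor.Leech.SevenFix.Held
import Cfsg.Agent.Lib.Spor.Leech.SevenFix.Shared
import Cfsg.Agent.Lib.Fus.Transv.Exist
import Cfsg.Agent.Lib.Fus.Transv.PsiRun1_14
import Cfsg.Agent.Lib.Fus.Transv.PsiRun2_78
import Cfsg.Agent.Lib.Fus.Transv.SwapRun1_14
import Cfsg.Agent.Lib.Fus.Transv.SwapRun2_78

/-!
# The fusion pattern in the section at an element of order seven
-/

set_option autoImplicit false
set_option maxRecDepth 100000
set_option linter.style.haveILetI false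

noncomputable section

namespace Cfsg.Agent.Spor.Leech.SevenFix

open Cfsg Cfsg.Agent.Spor.Leech.OddFix
open Cfsg.Agent.Fus.Transv (Mem repC clsOf sC oneC mulC cjC invTab commC inMask Swap swapTree1_14 swapTree2_78)

/-- The involutions of the classes in the list. -/
def inCls (l : List ℕ) : List ℕ := (invTab.filter fun e => l.any fun i => Nat.beq e.2.1 i).map Prod.fst

theorem inCls_length : (inCls [0, 1]).length = 15 ∧ (inCls [0, 1, 2]).length = 29 := by decide +kernel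

theorem cls_zero : (invTab.all fun e => !(Nat.beq e.2.1 0) || Nat.beq e.1 sC) = true := by decide +kernel

theorem mem_inCls {l : List ℕ} {c : ℕ} (hlt : clsOf c < 8) (hl : clsOf c ∈ l) : c ∈ inCls l := by
  obtain ⟨hm, h1, h2⟩ := Cfsg.Agent.Fus.Transv.clsOf_none hlt
  obtain ⟨e, he, rfl⟩ := Cfsg.Agent.Fus.Transv.mem_invTab hm h1 h2
  have := List.all_eq_true.1 Cfsg.Agent.Fus.Transv.invTab_ok e he
  simp only [Bool.and_eq_true, Nat.beq_eq] at this
  refine List.mem_map.2 ⟨e, List.mem_filter.2 ⟨he, List.any_eq_true.2 ⟨_, this.2 ▸ hl, ?_⟩⟩, rfl⟩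
  simp

/-- The check that the swapped centralisers share no class five. -/
def apartOk (i : ℕ) (t : Cfsg.Agent.Fus.Transv.CTree) : Bool :=
  invTab.all fun e => !(Nat.beq e.2.1 5) || !(commC e.1 (repC i)) ||
    (!(Nat.beq (Cfsg.Agent.Fus.Transv.mapC t e.1) 8) && !(Nat.beq (clsOf (Cfsg.Agent.Fus.Transv.mapC t e.1)) 5))

theorem apart14 : apartOk 1 swapTree1_14 = true := by decide +kernel

theorem apart78 : apartOk 2 swapTree2_78 = true := by decide +kernel

section loc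

variable {K : Type*} [Group K] [Finite K] {w : K} {J : ℕ → K} (L : Cfsg.Agent.Fus.Transv.Loc w J)
include L

/-- An involution of the core is of one of four classes. -/
theorem core_cls {x : Subgroup.centralizer ({w} : Set K)} (hx : x ∈ Cfsg.pCore 2 (Subgroup.centralizer ({w} : Set K)))
    (h2 : (x : K) * x = 1) (h1 : (x : K) ≠ 1) :
    ∃ c, Mem c ∧ J c = (x : K) ∧ clsOf c < 8 ∧ clsOf c ∈ [0, 1, 2, 5] := by
  obtain ⟨c, hc, e⟩ := (L.range _).1 (Subgroup.mem_centralizer_singleton_iff.1 x.2)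
  have hc2 : mulC c c = oneC := L.inj _ _ (hc.mul hc) Cfsg.Agent.Fus.Transv.mem_one (by rw [L.hom _ _ hc hc, e, h2, L.map_one])
  have hc1 : c ≠ oneC := fun h => h1 (by rw [← e, h, L.map_one])
  obtain ⟨hlt, k, hk, hkc⟩ := Cfsg.Agent.Fus.Transv.cls_spec hc hc2 hc1
  refine ⟨c, hc, e, hlt, ?_⟩
  by_contra hno
  obtain ⟨hok, hfst⟩ := Cfsg.Agent.Fus.Transv.odd_ok
  have hmem : clsOf c ∈ Cfsg.Agent.Fus.Transv.oddList.map Prod.fst := by
    rw [hfst]
    simp only [List.mem_cons, List.not_mem_nil, or_false, not_or] at hno ⊢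
    omega
  obtain ⟨p, hp, hpe⟩ := List.mem_map.1 hmem
  have hpk := List.all_eq_true.1 hok p hp
  simp only [Bool.and_eq_true, Nat.beq_eq, Bool.not_eq_true'] at hpk
  obtain ⟨⟨hh, h3⟩, hne1⟩ := hpk
  rw [hpe] at h3 hne1
  let N := Cfsg.pCore 2 (Subgroup.centralizer ({w} : Set K))
  haveI : Fact (Nat.Prime 2) := ⟨Nat.prime_two⟩
  haveI hN : N.Normal := Cfsg.Agent.Grp.pCore_isNormal
  let el : ∀ a, Mem a → Subgroup.centralizer ({w} : Set K) := fun a ha =>
    ⟨J a, Subgroup.mem_centralizer_singleton_iff.2 (L.comm_z ha)⟩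
  have hr : el _ (Mem.rep (clsOf c)) ∈ N := by
    have := hN.conj_mem x hx (el _ hk)⁻¹
    convert this using 1
    refine Subtype.ext ?_
    show J (repC (clsOf c)) = (J k)⁻¹ * x * (J k)⁻¹⁻¹
    rw [← e]
    conv_rhs => rw [← hkc]
    rw [L.map_cj hk (Mem.rep _)]; group
  have hh' : Mem p.2 := hh
  have hprod := N.mul_mem hr (hN.conj_mem _ hr (el _ hh'))
  set m := mulC (repC (clsOf c)) (cjC p.2 (repC (clsOf c))) with hm
  have hmm : Mem m := (Mem.rep _).mul (Cfsg.Agent.Fus.Transv.Mem.cj hh' (Mem.rep _))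
  obtain ⟨j, hj⟩ := (Cfsg.Agent.Grp.pCore_isPGroup (p := 2)) ⟨_, hprod⟩
  have hval : J m ^ 2 ^ j = 1 := by
    have := congrArg (fun y : N => ((y : Subgroup.centralizer ({w} : Set K)) : K)) hj
    simp only [SubmonoidClass.coe_pow, OneMemClass.coe_one] at this
    rw [hm, L.hom _ _ (Mem.rep _) (Cfsg.Agent.Fus.Transv.Mem.cj hh' (Mem.rep _)), L.map_cj hh' (Mem.rep _)]
    simpa only [el, Subgroup.coe_mul, Subgroup.coe_inv] using this
  have hcube : J m ^ 3 = 1 := by
    have : Cfsg.Agent.Fus.Transv.powC m 3 = mulC m (mulC m (mulC m oneC)) := rfl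
    rw [← L.map_one, ← h3, this, hmm.mul_one, L.hom _ _ hmm (hmm.mul hmm), L.hom _ _ hmm hmm, pow_succ', pow_two]
  have h1' : J m = 1 := by
    have hco : Nat.Coprime (2 ^ j) 3 := (by decide : Nat.Coprime 2 3).pow_left _
    have := pow_gcd_eq_one.2 ⟨hval, hcube⟩
    rwa [hco, pow_one] at this
  exact absurd ((L.eq_one_iff hmm).1 h1') (fun h => by rw [h] at hne1; simp at hne1)

end loc

variable {G : Type*} [Group G] [Finite G] {z : G} {Q : Subgroup (Subgroup.centralizer ({z} : Set G))} [hQn : Q.Normal]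
  {e : (Subgroup.centralizer ({z} : Set G)) ⧸ Q ≃* Cfsg.Spor.Co1} {ψ : leechLattice → Q ⧸ Subgroup.center Q}
  {b s : G} [hn : (NT b).Normal]

theorem R_core (S : Setup z Q e ψ 7 P0 Bs Gi b s none) : Cfsg.pCore 2 S.Dz = S.R := by
  haveI := S.R_normal
  haveI : Fact (Nat.Prime 2) := ⟨Nat.prime_two⟩
  refine le_antisymm (fun x hx => ?_) (le_sSup ⟨inferInstance, IsPGroup.of_card S.card_R⟩)
  have h := quot.core _ ((Grp.pCore_isNormal : (Cfsg.pCore 2 S.Dz).Normal).map _ (S.Phi_surjective quot))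
    ((Grp.pCore_isPGroup (p := 2) (G := S.Dz)).map _)
  rw [← S.ker_Phi quot, MonoidHom.mem_ker, ← Subgroup.mem_bot, ← h]
  exact ⟨x, hx, rfl⟩

theorem conj_count (S : Setup z Q e ψ 7 P0 Bs Gi b s none)
    (hswap : ∃ h : G, h * z * h⁻¹ = s ∧ h * b * h⁻¹ ∈ Subgroup.zpowers b) :
    {d : S.Dz | d ∈ S.R ∧ IsConj S.zb (d : CB b ⧸ NT b)}.ncard = 29 := by
  rw [← count S, ← Set.ncard_image_of_injective {x : S.Q0 | (x : G) = z ∨ (S.coord x).toAdd ∈ frameSet}
    (f := fun x => (S.eR x : S.Dz)) (Subtype.val_injective.comp S.eR.injective)]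
  congr 1
  ext d
  simp only [Set.mem_setOf_eq, Set.mem_image]
  constructor
  · rintro ⟨hd, hc⟩
    obtain ⟨x, hx⟩ := S.eR.surjective ⟨d, hd⟩
    obtain rfl : (S.eR x : S.Dz) = d := congrArg Subtype.val hx
    rw [S.isConj_iff_reached hswap exists_norm frames, coord_mem] at hc
    exact ⟨x, hc, rfl⟩
  · rintro ⟨x, hx, rfl⟩
    refine ⟨(S.eR x).2, ?_⟩
    rw [S.isConj_iff_reached hswap exists_norm frames, coord_mem]
    exact hx

theorem pattern (S : Setup z Q e ψ 7 P0 Bs Gi b s none)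
    (hswap : ∃ h : G, h * z * h⁻¹ = s ∧ h * b * h⁻¹ ∈ Subgroup.zpowers b) {J : ℕ → CB b ⧸ NT b}
    (L : Cfsg.Agent.Fus.Transv.Loc S.zb J) {m : ℕ}
    (hm : m = 2 ∨ m = 14 ∨ m = 78) (hmask : ∀ i < 8, inMask m i = true ↔ IsConj (J (repC i)) S.zb) : False := by
  classical
  haveI := S.R_normal
  set A : Set S.Dz := {d : S.Dz | d ∈ S.R ∧ IsConj S.zb (d : CB b ⧸ NT b)} with hA
  have h29 : A.ncard = 29 := conj_count S hswap
  -- the classes of the conjugates in the core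
  have hcode : ∀ d ∈ A, ∃ c, Mem c ∧ J c = (d : CB b ⧸ NT b) ∧ clsOf c < 8 ∧
      (clsOf c = 0 ∨ clsOf c = 1 ∨ (clsOf c = 2 ∧ inMask m 2 = true)) := by
    intro d hd
    obtain ⟨c, hc, e', hlt, hin⟩ := core_cls L ((R_core S).ge hd.1) (L.mul_self_of_conj hd.2.symm)
      (fun h => by
        have := hd.2
        rw [h] at this
        exact L.z_ne_one (isConj_one_left.1 this))
    have hF : inMask m (clsOf c) = true := (hmask _ hlt).2 ((L.fused_cls hc).1 (e' ▸ hd.2.symm)).2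
    refine ⟨c, hc, e', hlt, ?_⟩
    simp only [List.mem_cons, List.not_mem_nil, or_false] at hin
    rcases hin with h | h | h | h
    · exact Or.inl h
    · exact Or.inr (Or.inl h)
    · exact Or.inr (Or.inr ⟨h, h ▸ hF⟩)
    · rw [h] at hF
      rcases hm with rfl | rfl | rfl <;> exact absurd hF (by decide +kernel)
  choose f hfm hfe hflt hfc using hcode
  have hinj : Function.Injective fun d : A => f d.1 d.2 := fun d d' h => Subtype.ext (Subtype.ext (by
    rw [← hfe d.1 d.2, ← hfe d'.1 d'.2]; exact congrArg J h))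
  by_cases h2 : inMask m 2 = true
  swap
  · have hsub : ∀ d : A, f d.1 d.2 ∈ inCls [0, 1] := fun d => mem_inCls (hflt _ d.2) (by
      rcases hfc _ d.2 with h | h | ⟨-, h⟩
      · simp [h]
      · simp [h]
      · exact absurd h h2)
    have h := Nat.card_le_card_of_injective (fun d : A => (⟨f d.1 d.2, List.mem_toFinset.2 (hsub d)⟩ :
      (inCls [0, 1]).toFinset)) fun d d' e' => hinj (congrArg Subtype.val e')
    rw [Nat.card_coe_set_eq, h29, Nat.card_eq_finsetCard] at h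
    have := (List.toFinset_card_le (inCls [0, 1])).trans inCls_length.1.le
    omega
  haveI : Fintype A := Fintype.ofFinite _
  -- the representatives of the two classes are in the core
  have hsub : (Finset.univ.image fun d : A => f d.1 d.2) ⊆ (inCls [0, 1, 2]).toFinset := fun c hc => by
    obtain ⟨d, -, rfl⟩ := Finset.mem_image.1 hc
    refine List.mem_toFinset.2 (mem_inCls (hflt _ d.2) ?_)
    rcases hfc _ d.2 with h | h | ⟨h, -⟩ <;> simp [h]
  have heq := Finset.eq_of_subset_of_card_le hsub (by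
    rw [Finset.card_image_of_injective _ hinj, Finset.card_univ, ← Nat.card_eq_fintype_card, Nat.card_coe_set_eq, h29]
    exact (List.toFinset_card_le _).trans inCls_length.2.le)
  obtain ⟨a, t, i, hi, ha, hap, hts⟩ :
      ∃ a t i, (i = 1 ∨ i = 2) ∧ Swap J a t ∧ apartOk i t = true ∧ Cfsg.Agent.Fus.Transv.mapC t sC = repC i := by
    rcases hm with rfl | rfl | rfl
    · exact absurd h2 (by decide +kernel)
    · obtain ⟨a, ha⟩ := L.exists_swapping (Or.inl rfl) (by decide +kernel) hmask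
        Cfsg.Agent.Fus.Transv.psiOk1_14 Cfsg.Agent.Fus.Transv.swapOk1_14
      exact ⟨a, _, 1, Or.inl rfl, ha, apart14, by
        have := Cfsg.Agent.Fus.Transv.swapOk1_14
        simp only [Cfsg.Agent.Fus.Transv.swapOk, Bool.and_eq_true, Nat.beq_eq] at this
        exact this.1.1.1.1.1.1.2⟩
    · obtain ⟨a, ha⟩ := L.exists_swapping (Or.inr rfl) (by decide +kernel) hmask
        Cfsg.Agent.Fus.Transv.psiOk2_78 Cfsg.Agent.Fus.Transv.swapOk2_78
      exact ⟨a, _, 2, Or.inr rfl, ha, apart78, by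
        have := Cfsg.Agent.Fus.Transv.swapOk2_78
        simp only [Cfsg.Agent.Fus.Transv.swapOk, Bool.and_eq_true, Nat.beq_eq] at this
        exact this.1.1.1.1.1.1.2⟩
  have hcl : clsOf (repC i) = i := by rcases hi with rfl | rfl <;> decide +kernel
  have h1 : repC i ∈ Finset.univ.image fun d : A => f d.1 d.2 := by
    rw [heq]
    refine List.mem_toFinset.2 (mem_inCls ?_ ?_) <;> rw [hcl] <;> rcases hi with rfl | rfl <;> simp
  obtain ⟨⟨r, hrR, hrc⟩, -, hr⟩ := Finset.mem_image.1 h1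
  have hre : (r : CB b ⧸ NT b) = J (repC i) := (hfe r ⟨hrR, hrc⟩).symm.trans (congrArg J hr)
  have hr0 : repC i ≠ sC := by rcases hi with rfl | rfl <;> decide +kernel
  have hrz : (r : CB b ⧸ NT b) ≠ S.zb := fun h => hr0 (L.inj _ _ (Mem.rep i) Cfsg.Agent.Fus.Transv.mem_sC
    (by rw [← hre, h, L.map_s]))
  have haz : a * S.zb * a⁻¹ = (r : CB b ⧸ NT b) := by
    have h := (ha.map sC (by rw [hts]; exact fun h => Cfsg.Agent.Fus.Transv.not_mem_eight (h ▸ Mem.rep i))).2.2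
    rwa [L.map_s, hts, ← hre] at h
  obtain ⟨γ, y, y', hγ, hy, hy', hy1, hy2, hyn, hyy⟩ := shared S hswap hrR hrc hrz
  have hai : a⁻¹ = a := inv_eq_of_mul_eq_one_left ha.sq
  have hgz : a⁻¹ * γ * S.zb = S.zb * (a⁻¹ * γ) := by
    calc a⁻¹ * γ * S.zb = a⁻¹ * (γ * S.zb * γ⁻¹) * γ := by group
      _ = a⁻¹ * (a * S.zb * a⁻¹) * γ := by rw [hγ, haz]
      _ = S.zb * (a⁻¹ * γ) := by group
  let g : S.Dz := ⟨a⁻¹ * γ, Subgroup.mem_centralizer_singleton_iff.2 hgz⟩
  have hy'' : g * y' * g⁻¹ ∈ S.R := S.R_normal.conj_mem _ hy' g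
  have hval : ((g * y' * g⁻¹ : S.Dz) : CB b ⧸ NT b) = a * (y : CB b ⧸ NT b) * a⁻¹ := by
    show a⁻¹ * γ * (y' : CB b ⧸ NT b) * (a⁻¹ * γ)⁻¹ = _
    rw [← hyy]
    conv_rhs => rw [← hai]
    group
  have hy2' : (y : CB b ⧸ NT b) * y = 1 := congrArg Subtype.val hy2
  have hy1' : (y : CB b ⧸ NT b) ≠ 1 := fun h => hy1 (Subtype.ext h)
  -- both lie in the class five
  have five : ∀ d : S.Dz, d ∈ S.R → (d : CB b ⧸ NT b) * d = 1 → (d : CB b ⧸ NT b) ≠ 1 →
      ¬ IsConj S.zb (d : CB b ⧸ NT b) → ∃ c, Mem c ∧ J c = (d : CB b ⧸ NT b) ∧ clsOf c = 5 := by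
    intro d hd hd2 hd1 hdn
    obtain ⟨c, hc, e', hlt, hin⟩ := core_cls L ((R_core S).ge hd) hd2 hd1
    refine ⟨c, hc, e', ?_⟩
    have hnF : ¬ inMask m (clsOf c) = true := fun h =>
      hdn (e' ▸ ((L.fused_cls hc).2 ⟨hlt, (hmask _ hlt).1 h⟩).symm)
    simp only [List.mem_cons, List.not_mem_nil, or_false] at hin
    rcases hm with rfl | rfl | rfl <;> rcases hin with h | h | h | h <;> first
      | exact h
      | exact absurd (by rw [h]; decide +kernel) hnF
      | exact absurd h2 (by decide +kernel)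
  obtain ⟨c, hc, hce, hc5⟩ := five y hy hy2' hy1' hyn
  have hcy : mulC c (repC i) = mulC (repC i) c := by
    refine (L.comm_iff hc (Mem.rep i)).1 ?_
    rw [hce, ← hre, ← hγ, ← hyy]
    have hcm : (y' : CB b ⧸ NT b) * S.zb = S.zb * (y' : CB b ⧸ NT b) := Subgroup.mem_centralizer_singleton_iff.1 y'.2
    calc γ * (y' : CB b ⧸ NT b) * γ⁻¹ * (γ * S.zb * γ⁻¹) = γ * ((y' : CB b ⧸ NT b) * S.zb) * γ⁻¹ := by group
      _ = γ * S.zb * γ⁻¹ * (γ * (y' : CB b ⧸ NT b) * γ⁻¹) := by rw [hcm]; group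
  have hci : c ∈ inCls [5] := mem_inCls (by omega) (by simp [hc5])
  obtain ⟨e', he', rfl⟩ := List.mem_map.1 hci
  obtain ⟨he', h5⟩ := List.mem_filter.1 he'
  have hk := List.all_eq_true.1 hap e' he'
  simp only [List.any_cons, List.any_nil, Bool.or_false] at h5
  rw [h5, show commC e'.1 (repC i) = true by simp [commC, hcy]] at hk
  simp only [Bool.not_true, Bool.false_or, Bool.and_eq_true, Bool.not_eq_true', Bool.eq_false_iff, ne_eq,
    Nat.beq_eq] at hk
  obtain ⟨-, hm', hmap⟩ := ha.map e'.1 hk.1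
  obtain ⟨c', hc', hce', hc5'⟩ := five _ hy'' (by
      rw [hval]
      calc a * (y : CB b ⧸ NT b) * a⁻¹ * (a * y * a⁻¹) = a * ((y : CB b ⧸ NT b) * y) * a⁻¹ := by group
        _ = 1 := by rw [hy2']; group)
    (by rw [hval]; exact fun h => hy1' (conj_eq_one_iff.1 h))
    (by rw [hval]; exact fun h => hyn (h.trans (_root_.isConj_iff.2 ⟨a⁻¹, by group⟩)))
  rw [hval, ← hce, hmap] at hce'
  exact hk.2 (L.inj _ _ hc' hm' hce' ▸ hc5')

end Cfsg.Agent.Spor.Leech.SevenFix

end
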