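import Cfsg.Agent.Lib.Spor.Leech.SevenFix.Frames
import Cfsg.Agent.Lib.Fus.Transv.Models
import Cfsg.Agent.Lib.Spor.Leech.SevenFix.Pattern

/-!
# The section at an element of order seven is the Held group
-/

set_option autoImplicit false
set_option maxRecDepth 100000
set_option linter.style.haveILetI false

noncomputable section

namespace Cfsg.Agent.Spor.Leech.SevenFix

open Cfsg Cfsg.Agent.Spor.Leech.OddFix
open Cfsg.Agent.Spor.Leech.SevenFix.HeModel (S5 t5 x5 w5 frame5 blk_x5 blk_z card_ker5 cent5 card5 el5_val exists_model unList unList_facts Cd coords_of_frame blk_surj)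
open Cfsg.Agent.Fus.HeUniq (CC Coords Frame exists_frame SL3 card_sl3)
open Cfsg.Agent.Fus.Transv (repC inMask clsOf exists_pattern hasPatH iso_he)

theorem coords_iso {H H' : Type*} [Group H] [Group H'] {Q : Subgroup H} {Q' : Subgroup H'} {z : H} {z' : H'}
    {b tw : Bool} {φ : H → ℕ} {φ' : H' → ℕ} (c : Coords H Q z b tw φ) (c' : Coords H' Q' z' b tw φ') :
    Nonempty (H ≃* H') := by
  choose f hf using fun g => (c'.range (φ g)).1 ((c.range _).2 ⟨g, rfl⟩)
  have hmul : ∀ g h, f (g * h) = f g * f h := fun g h =>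
    c'.inj (by rw [hf, c.map_mul, c'.map_mul, hf, hf])
  exact ⟨MulEquiv.ofBijective (MonoidHom.mk' f hmul) ⟨fun g h e => c.inj (by rw [← hf g, ← hf h]; exact congrArg φ' e),
    fun k => by
      obtain ⟨g, hg⟩ := (c.range _).1 ((c'.range _).2 ⟨k, rfl⟩)
      exact ⟨g, c'.inj ((hf g).trans hg)⟩⟩⟩

theorem t5_order : orderOf t5 = 2 :=
  orderOf_eq_prime (hp := ⟨Nat.prime_two⟩) (Subtype.ext (by decide +kernel)) fun h =>
    absurd (congrArg (fun a : S5 => (a : Matrix (Fin 5) (Fin 5) (ZMod 2)) 0 1) h) (by decide +kernel)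

theorem swap5 : ∀ c : Fin 3, (Equiv.Perm.permMatrix (ZMod 2) (Equiv.swap (c.castLE (by omega) : Fin 5) 2)).det = 1 := by
  decide +kernel

theorem coords5 : ∃ φ, Coords (CC t5) HeModel.blk.ker (Cfsg.Agent.Fus.HeUniq.zc t5) false false φ := by
  have hx : ((x5 0 : S5) : Matrix (Fin 5) (Fin 5) (ZMod 2)) =
      Cfsg.Agent.Spor.TransvectionFive.mk (0, Pi.single 0 1, 0, 1) := el5_val Matrix.det_one
  have hw : ((w5 0 : S5) : Matrix (Fin 5) (Fin 5) (ZMod 2)) =
      Cfsg.Agent.Spor.TransvectionFive.mk (0, 0, Pi.single 0 1, 1) := el5_val Matrix.det_one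
  let P : Fin 3 → S5 := fun c => ⟨_, swap5 c⟩
  have hcx : IsConj (x5 0 : S5) t5 := IsConj.symm (_root_.isConj_iff.2 ⟨P 1, mul_inv_eq_iff_eq_mul.2 (Subtype.ext (by
    rw [Matrix.SpecialLinearGroup.coe_mul, Matrix.SpecialLinearGroup.coe_mul, hx]; decide +kernel))⟩)
  have hcw : IsConj (w5 0 : S5) t5 := IsConj.symm (_root_.isConj_iff.2 ⟨P 0, mul_inv_eq_iff_eq_mul.2 (Subtype.ext (by
    rw [Matrix.SpecialLinearGroup.coe_mul, Matrix.SpecialLinearGroup.coe_mul, hw]; decide +kernel))⟩)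
  have hne : (x5 0 : S5) ≠ t5 := fun h => by
    have := congrArg (fun a : S5 => (a : Matrix (Fin 5) (Fin 5) (ZMod 2))) h
    rw [hx] at this
    revert this
    decide +kernel
  have hco := coords_of_frame frame5 (fun i => (blk_x5 i).1) (fun i => (blk_x5 i).2) blk_z card_ker5 cent5
    (QuotientGroup.quotientKerEquivOfSurjective HeModel.blk blk_surj)
  rcases exists_model t5_order card5 hco ⟨x5 0, hcx, hne⟩ with h | ⟨φ, D⟩
  · exact h
  · exfalso
    have h := congrArg (fun a : S5 => (a : Matrix (Fin 5) (Fin 5) (ZMod 2))) (D.un_comm hcx hcw)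
    simp only [Matrix.SpecialLinearGroup.coe_mul, hx, hw] at h
    revert h
    decide +kernel

theorem low_masks : ∀ a : Fin 6 → ZMod 2, (∀ i : Fin 3, a (Fin.natAdd 3 i) = 0) → a = 0 ∨ a ∈ frameSet := by
  decide +kernel

variable {G : Type*} [Group G] [Finite G] {z : G} {Q : Subgroup (Subgroup.centralizer ({z} : Set G))} [hQn : Q.Normal]
  {e : (Subgroup.centralizer ({z} : Set G)) ⧸ Q ≃* Cfsg.Spor.Co1} {ψ : leechLattice → Q ⧸ Subgroup.center Q}
  {b s : G} [hn : (NT b).Normal]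

theorem exists_elementary (S : Setup z Q e ψ 7 P0 Bs Gi b s none) :
    ∃ E : Subgroup S.R, Cfsg.IsElementaryAbelian 2 E ∧ Nat.card E = 2 ^ 4 := by
  let pr : S.Q0 →* Multiplicative (Fin 3 → ZMod 2) :=
    (AddMonoidHom.toMultiplicative
      (LinearMap.funLeft (ZMod 2) (ZMod 2) (Fin.natAdd 3 : Fin 3 → Fin 6)).toAddMonoidHom).comp S.coord
  have hsur : Function.Surjective pr := (Multiplicative.ofAdd.surjective.comp
    ((LinearMap.funLeft_surjective_of_injective (ZMod 2) (ZMod 2) _ (Fin.natAdd_injective 3 3)).comp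
      Multiplicative.toAdd.surjective)).comp S.coord_surjective
  have hsq : ∀ x ∈ pr.ker, x * x = 1 := by
    intro x hx
    refine Subtype.ext ?_
    show (x : G) * x = 1
    rcases low_masks (S.coord x).toAdd (fun i => congrFun (congrArg Multiplicative.toAdd (MonoidHom.mem_ker.1 hx)) i) with h | h
    · rcases (S.coord_one x).1 (Multiplicative.toAdd.injective h) with h' | h' <;> rw [h']
      · rw [one_mul]
      · exact S.mt.z_sq
    · obtain ⟨v, hv, hv64⟩ := (coord_mem S x).2 h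
      exact (S.mt.rep_involution hv (Or.inr hv64)).1
  have hcard : Nat.card pr.ker = 2 ^ 4 := by
    have h := pr.ker.card_mul_index
    rw [S.card_Q0, Subgroup.index_ker, MonoidHom.range_eq_top.2 hsur, Subgroup.card_top,
      Nat.card_congr Multiplicative.toAdd, Nat.card_fun, Nat.card_zmod, Nat.card_fin] at h
    norm_num at h ⊢
    omega
  refine ⟨pr.ker.map S.eR.toMonoidHom, ⟨⟨⟨?_⟩⟩, ?_⟩, ?_⟩
  · rintro ⟨_, a, ha, rfl⟩ ⟨_, c, hc, rfl⟩
    refine Subtype.ext ?_
    show S.eR a * S.eR c = S.eR c * S.eR a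
    rw [← map_mul, ← map_mul]
    refine congrArg _ ?_
    calc a * c = a⁻¹ * c⁻¹ := by rw [inv_eq_of_mul_eq_one_right (hsq a ha), inv_eq_of_mul_eq_one_right (hsq c hc)]
      _ = (c * a)⁻¹ := (mul_inv_rev c a).symm
      _ = c * a := inv_eq_of_mul_eq_one_right (hsq _ (mul_mem hc ha))
  · rintro _ ⟨a, ha, rfl⟩
    rw [pow_two, ← map_mul, hsq a ha, map_one]
  · rw [← hcard]
    exact Nat.card_congr (pr.ker.equivMapOfInjective _ S.eR.injective).toEquiv.symm

theorem coordsD (S : Setup z Q e ψ 7 P0 Bs Gi b s none)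
    (hswap : ∃ h : G, h * z * h⁻¹ = s ∧ h * b * h⁻¹ ∈ Subgroup.zpowers b) :
    ∃ φ, Coords (CC S.zb) S.R (Cfsg.Agent.Fus.HeUniq.zc S.zb) false false φ := by
  classical
  haveI := S.R_normal
  obtain ⟨E, hE, hE4⟩ := exists_elementary S
  have hz1 : (S.eR ⟨z, S.z_mem0⟩ : S.Dz) = Cfsg.Agent.Fus.HeUniq.zc S.zb := Subtype.ext S.eR_z
  have hzc : S.eR ⟨z, S.z_mem0⟩ ∈ Subgroup.center S.R := Subgroup.mem_center_iff.2 fun q => Subtype.ext (by
    show (q : S.Dz) * (S.eR ⟨z, S.z_mem0⟩ : S.Dz) = (S.eR ⟨z, S.z_mem0⟩ : S.Dz) * q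
    rw [hz1]; exact (Cfsg.Agent.Fus.HeUniq.zc_comm (q : S.Dz)).symm)
  have hne : S.eR ⟨z, S.z_mem0⟩ ≠ 1 := fun h => by
    rw [MulEquiv.map_eq_one_iff] at h
    exact S.mt.z_ne (congrArg Subtype.val h)
  obtain ⟨x, w, fr⟩ := exists_frame (S.extraspecial_R (by norm_num)) S.card_R hE hE4 hzc hne
  have fr' : Frame (Cfsg.Agent.Fus.HeUniq.zc S.zb) (fun i => (x i : S.Dz)) (fun i => (w i : S.Dz)) :=
    { zsq := by rw [← hz1]; exact congrArg Subtype.val fr.zsq
      zne := fun h => hne (Subtype.ext (hz1.trans h))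
      zc := Cfsg.Agent.Fus.HeUniq.zc_comm
      xsq := fun i => congrArg Subtype.val (fr.xsq i)
      wsq := fun i => congrArg Subtype.val (fr.wsq i)
      xx := fun i j => congrArg Subtype.val (fr.xx i j)
      ww := fun i j => congrArg Subtype.val (fr.ww i j)
      wx := fun i j => by
        have h := congrArg Subtype.val (fr.wx i j)
        rw [← hz1]
        cases hb : decide (i = j) <;> simp only [hb, cond_true, cond_false, Subgroup.coe_mul, mul_one] at h ⊢ <;>
          exact h }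
  have hco := coords_of_frame fr' (fun i => (x i).2) (fun i => (w i).2) (hz1 ▸ (S.eR _).2) S.card_R
    (S.centralizer_R_le quot) (S.iso quot)
  have hC : Nat.card (CC S.zb) = 21504 := by
    rw [← Subgroup.card_mul_index S.R, S.card_R, Subgroup.index_eq_card, Nat.card_congr (S.iso quot).toEquiv, card_sl3]
    norm_num
  have h29 := conj_count S hswap
  set A : Set S.Dz := {d : S.Dz | d ∈ S.R ∧ IsConj S.zb (d : CB b ⧸ NT b)} with hA
  obtain ⟨d, ⟨-, hd⟩, hdz⟩ := A.exists_ne_of_one_lt_ncard (by omega) (Cfsg.Agent.Fus.HeUniq.zc S.zb)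
  rcases exists_model S.zb_order hC hco ⟨d, hd.symm, fun h => hdz (Subtype.ext h)⟩ with h | ⟨φ, D⟩
  · exact h
  · exfalso
    have h := Nat.card_le_card_of_injective
      (fun d : A => (⟨φ d.1, List.mem_toFinset.2 (D.un_cls d.2.2.symm)⟩ : unList.toFinset))
      fun d d' h => Subtype.ext (D.co.inj (congrArg Subtype.val h))
    rw [Nat.card_coe_set_eq, h29, Nat.card_eq_finsetCard] at h
    have := (List.toFinset_card_le unList).trans unList_facts.1.le
    omega

theorem held_iso (S : Setup z Q e ψ 7 P0 Bs Gi b s none)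
    (hswap : ∃ h : G, h * z * h⁻¹ = s ∧ h * b * h⁻¹ ∈ Subgroup.zpowers b) :
    Cfsg.Spor.IsoHe (CB b ⧸ NT b) := by
  classical
  obtain ⟨φ, c⟩ := coordsD S hswap
  obtain ⟨φ', c'⟩ := coords5
  obtain ⟨ι⟩ := coords_iso c c'
  obtain ⟨J₀, L₀⟩ := Cfsg.Agent.Fus.Transv.exists_setup (s := t5) rfl S.zb_order ι
  have h29 := conj_count S hswap
  set A : Set S.Dz := {d : S.Dz | d ∈ S.R ∧ IsConj S.zb (d : CB b ⧸ NT b)} with hA
  obtain ⟨d, ⟨-, hd⟩, hdz⟩ := A.exists_ne_of_one_lt_ncard (by omega) (Cfsg.Agent.Fus.HeUniq.zc S.zb)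
  have h12 : ∃ i, i < 8 ∧ i ≠ 0 ∧ IsConj (J₀ (repC i)) S.zb := by
    obtain ⟨k, hk, hke⟩ := (L₀.range _).1 (Subgroup.mem_centralizer_singleton_iff.1 d.2)
    obtain ⟨hlt, hF⟩ := (L₀.fused_cls hk).1 (hke ▸ hd.symm)
    refine ⟨_, hlt, fun h0 => hdz (Subtype.ext ?_), hF⟩
    obtain ⟨hm, h1, h2⟩ := Cfsg.Agent.Fus.Transv.clsOf_none hlt
    obtain ⟨-, l, hl, hlk⟩ := Cfsg.Agent.Fus.Transv.cls_spec hm h1 h2
    rw [h0, Cfsg.Agent.Fus.Transv.repC_zero] at hlk
    show (d : CB b ⧸ NT b) = S.zb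
    rw [← hke, ← hlk, L₀.map_cj hl Cfsg.Agent.Fus.Transv.mem_sC, L₀.map_s, L₀.comm_z hl, mul_inv_cancel_right]
  obtain ⟨J, L, m, hm, hmask⟩ := exists_pattern L₀ h12
  simp only [List.mem_cons, List.not_mem_nil, or_false] at hm
  rcases hm with h | h | h | rfl
  · exact (pattern S hswap L (Or.inl h) hmask).elim
  · exact (pattern S hswap L (Or.inr (Or.inl h)) hmask).elim
  · exact (pattern S hswap L (Or.inr (Or.inr h)) hmask).elim
  · exact (iso_he (hasPatH L hmask)).map MulEquiv.symm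

/-- The statement for a Sylow subgroup of order seven. -/
theorem he_section {s : G} (hM : IsOfMonsterType z Q) (hsQ : s ∈ QG Q) (hs : IsConj z s) (hs1 : s ≠ z) (B : Subgroup G)
    (hB : B ≤ Subgroup.centralizer ({z, s} : Set G))
    (hBp : Nat.card B = 7 ^ (Nat.card ↥(Subgroup.centralizer ({z, s} : Set G))).factorization 7)
    [(B.subgroupOf (Subgroup.centralizer (B : Set G))).Normal] :
    Cfsg.Spor.IsoHe (↥(Subgroup.centralizer (B : Set G)) ⧸ B.subgroupOf (Subgroup.centralizer (B : Set G))) := by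
  obtain ⟨e, ψ, b, rfl, S, hswap⟩ := Cfsg.Agent.Spor.Leech.SevenFix.exists_setup hM hsQ hs hs1 B hB hBp
  exact held_iso S hswap

end Cfsg.Agent.Spor.Leech.SevenFix

end
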